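import Cfsg.Agent.Lib.Mod.GroupForm
import Cfsg.Agent.Lib.W4.Tools

/-!
# Invariant bilinear forms on minimal normal subgroups of real groups
-/

set_option autoImplicit false

namespace Cfsg.Agent.AD

open Subgroup Module Cfsg.Agent.OO Cfsg.Agent.Coprime Cfsg.Agent.Mod
open scoped commutatorElement Pointwise

universe u

theorem dual_one (K : Type*) {M : Type*} [Field K] [AddCommGroup M] [Module K M] {m : M}
    (hm : m ≠ 0) : ∃ φ : Dual K M, φ m = 1 := by
  obtain ⟨φ, h⟩ := not_forall.1 (mt (forall_dual_apply_eq_zero_iff K m).1 hm)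
  exact ⟨(φ m)⁻¹ • φ, by simp [h]⟩

theorem sep {K R M N : Type*} [Field K] [IsAlgClosed K] [Ring R] [Algebra K R] [AddCommGroup M]
    [Module K M] [Module R M] [IsScalarTower K R M] [FiniteDimensional K M] [IsSimpleModule R M]
    [AddCommGroup N] [Module K N] [Module R N] [IsScalarTower K R N] [FiniteDimensional K N]
    [IsSimpleModule R N] (h : ∀ f : M →ₗ[R] N, f = 0) :
    ∃ r : R, (∀ n : N, r • n = 0) ∧ ∃ f : M →ₗ[K] M, (∀ m, r • m = f m) ∧
      LinearMap.trace K M f = 1 := by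
  have := IsSimpleModule.nontrivial R M
  obtain ⟨m, hm⟩ := exists_ne (0 : M)
  obtain ⟨φ, hφ⟩ := dual_one K hm
  have h' : ∀ f : N →ₗ[R] M, f = 0 := fun f => f.bijective_or_eq_zero.resolve_left fun e => by
    have := LinearMap.congr_fun (h (LinearEquiv.ofBijective f e).symm) m
    exact hm (by simpa using this)
  have : IsSemisimpleModule R (M × N) := isSemisimpleModule_of_isSemisimpleModule_submodule'
    (p := fun b : Bool => if b then LinearMap.range (LinearMap.inl R M N)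
      else LinearMap.range (LinearMap.inr R M N))
    (fun b => by cases b <;> exact IsSemisimpleModule.range _)
    (by simpa [iSup_bool_eq] using LinearMap.sup_range_inl_inr)
  have : Module.Finite (End R (M × N)) (M × N) := .of_restrictScalars_finite K _ _
  obtain ⟨r, hr⟩ := Module.Finite.toModuleEnd_moduleEnd_surjective (R := R) (M := M × N)
    { toFun := fun p => (φ p.1 • m, 0)
      map_add' := fun p q => by simp [add_smul]
      map_smul' := fun E p => by
        obtain ⟨c, hc⟩ := (IsSimpleModule.algebraMap_end_bijective_of_isAlgClosed (k := K)).2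
          (LinearMap.fst R M N ∘ₗ E ∘ₗ LinearMap.inl R M N)
        have h1 : ∀ x : M, E (x, 0) = (c • x, 0) := fun x => Prod.ext
          (LinearMap.congr_fun hc x).symm
          (LinearMap.congr_fun (h (LinearMap.snd R M N ∘ₗ E ∘ₗ LinearMap.inl R M N)) x)
        have h2 : (E (0, p.2)).1 = 0 :=
          LinearMap.congr_fun (h' (LinearMap.fst R M N ∘ₗ E ∘ₗ LinearMap.inr R M N)) p.2
        have h3 : (E p).1 = c • p.1 := by
          rw [show p = (p.1, 0) + (0, p.2) by simp, map_add, Prod.fst_add, h1, h2]; simp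
        change (φ (E p).1 • m, 0) = E (φ p.1 • m, 0)
        rw [h1, h3, map_smul, smul_eq_mul, mul_smul] }
  exact ⟨r, fun n => congrArg Prod.snd (LinearMap.congr_fun hr (0, n)), φ.smulRight m,
    fun x => congrArg Prod.fst (LinearMap.congr_fun hr (x, 0)), by
      rw [LinearMap.trace_smulRight, hφ]⟩

section

variable {K H U : Type*} [Field K] [Group H] [AddCommGroup U] [Module K U] [FiniteDimensional K U]

theorem simple_of_irr {ρ : Representation K H U} (h : IsIrr ρ ⊤ ⊤) :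
    IsSimpleModule (MonoidAlgebra K H) ρ.asModule := by
  rw [← Representation.irreducible_iff_isSimpleModule_asModule]
  have : Nontrivial (Subrepresentation ρ) := ⟨⊤, ⊥, fun e => h.ne_bot
    (congrArg Subrepresentation.toSubmodule e)⟩
  exact ⟨fun X => (h.eq_bot_or_eq X.toSubmodule le_top
    fun g _ v hv => X.apply_mem_toSubmodule g hv).imp
    (fun e => Subrepresentation.toSubmodule_injective e)
    fun e => Subrepresentation.toSubmodule_injective e⟩

theorem irr_dual {ρ : Representation K H U} (h : IsIrr ρ ⊤ ⊤) : IsIrr ρ.dual ⊤ ⊤ := by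
  have : Nontrivial U := Submodule.nontrivial_iff K |>.1 ⟨⊤, ⊥, h.ne_bot⟩
  refine ⟨isInv_top _, top_ne_bot, fun X _ hX => ?_⟩
  rcases h.eq_bot_or_eq X.dualCoannihilator le_top (fun g _ v hv => by
    rw [Submodule.mem_dualCoannihilator] at hv ⊢
    exact fun φ hφ => by simpa [Dual.transpose_apply] using hv _ (hX g⁻¹ trivial φ hφ)) with e | e
  · right; rw [← Subspace.dualCoannihilator_dualAnnihilator_eq (W := X), e]; simp
  · left; rw [← Subspace.dualCoannihilator_dualAnnihilator_eq (W := X), e]; simp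

theorem exists_form_irr [IsAlgClosed K] {ρ : Representation K H U} (h : IsIrr ρ ⊤ ⊤)
    (hr : ∀ g : H, ∃ k, k * g * k⁻¹ = g⁻¹) :
    ∃ B : U →ₗ[K] U →ₗ[K] K, B ≠ 0 ∧ ∀ g x y, B (ρ g x) (ρ g y) = B x y := by
  have := simple_of_irr h
  have := simple_of_irr (irr_dual h)
  by_contra! e
  obtain ⟨r, h1, f, h2, h3⟩ := sep (K := K) (R := MonoidAlgebra K H) (M := ρ.asModule)
    (N := ρ.dual.asModule) fun f => by
      by_contra f0
      obtain ⟨g, x, y, e'⟩ := e ((Representation.IntertwiningMap.equivLinearMapAsModule ρ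
        ρ.dual).symm f).toLinearMap fun e' => f0 (LinearMap.ext fun x => LinearMap.congr_fun e' x)
      refine e' ?_
      have := LinearMap.congr_fun (((Representation.IntertwiningMap.equivLinearMapAsModule ρ
        ρ.dual).symm f).isIntertwining' g) x
      rw [LinearMap.comp_apply, LinearMap.comp_apply] at this
      rw [this]
      simp [Representation.dual_apply, Module.Dual.transpose_apply]
  have h4 : ∀ s : MonoidAlgebra K H, LinearMap.trace K U (ρ.asAlgebraHom s) =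
      LinearMap.trace K _ (ρ.dual.asAlgebraHom s) := fun s => by
    induction s using MonoidAlgebra.induction_linear with
    | zero => simp
    | add a b ha hb => simp [ha, hb]
    | single g c =>
      obtain ⟨k, hk⟩ := hr g
      rw [Representation.asAlgebraHom_single, Representation.asAlgebraHom_single, map_smul, map_smul,
        Representation.dual_apply, LinearMap.trace_transpose', ← hk, map_mul, LinearMap.trace_mul_comm,
        ← map_mul, ← mul_assoc, inv_mul_cancel, one_mul]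
  have h5 := h4 r
  rw [show ρ.dual.asAlgebraHom r = 0 from LinearMap.ext h1, map_zero,
    show ρ.asAlgebraHom r = f from LinearMap.ext h2] at h5
  exact one_ne_zero (h3.symm.trans h5)

theorem exists_form_rep [IsAlgClosed K] [Nontrivial U] (ρ : Representation K H U)
    (hr : ∀ g : H, ∃ k, k * g * k⁻¹ = g⁻¹) :
    ∃ B : U →ₗ[K] U →ₗ[K] K, B ≠ 0 ∧ ∀ g x y, B (ρ g x) (ρ g y) = B x y := by
  obtain ⟨X, ⟨h1, h2⟩, h3⟩ := (wellFounded_gt (α := Submodule K U)).has_min
    {X | IsInv ρ ⊤ X ∧ X ≠ ⊤} ⟨⊥, isInv_bot _, bot_ne_top⟩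
  have := Submodule.Quotient.nontrivial_iff.2 h2
  obtain ⟨B, b0, hB⟩ := exists_form_irr (ρ := ρ.quotient X fun g v hv => h1 g trivial v hv)
    ⟨isInv_top _, top_ne_bot, fun Y _ hY => by
      by_cases e : Y.comap X.mkQ = ⊤
      · exact Or.inr (by rw [← Submodule.map_comap_eq_of_surjective X.mkQ_surjective Y, e]; simp)
      · have h4 : X ≤ Y.comap X.mkQ := X.le_comap_mkQ Y
        have h5 := h4.eq_or_lt.resolve_right (h3 _ ⟨fun g _ v hv => hY g trivial _ hv, e⟩)
        exact Or.inl (by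
          rw [← Submodule.map_comap_eq_of_surjective X.mkQ_surjective Y, ← h5]; simp)⟩ hr
  refine ⟨B.compl₁₂ X.mkQ X.mkQ, fun e => b0 (LinearMap.ext₂ fun x y => ?_), fun g x y =>
    hB g (X.mkQ x) (X.mkQ y)⟩
  obtain ⟨x, rfl⟩ := X.mkQ_surjective x
  obtain ⟨y, rfl⟩ := X.mkQ_surjective y
  exact LinearMap.congr_fun₂ e x y

end

variable {G : Type u} [Group G] {A B K V : Subgroup G} {r : ℕ} {β : G → G → ZMod r} {ε : ZMod r}
  {g x y z : G}

/-- `β` is a nondegenerate `K`-invariant symmetric or antisymmetric form on `A` -/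
structure AF (K A : Subgroup G) (β : G → G → ZMod r) (ε : ZMod r) : Prop where
  norm : K ≤ 𝐍(A)
  add : ∀ x ∈ A, ∀ y ∈ A, ∀ z ∈ A, β (x * y) z = β x z + β y z
  eps : ε = 1 ∨ ε = -1
  sym : ∀ x ∈ A, ∀ y ∈ A, β x y = ε * β y x
  inv : ∀ g ∈ K, ∀ x ∈ A, ∀ y ∈ A, β (g * x * g⁻¹) (g * y * g⁻¹) = β x y
  nd : ∀ x ∈ A, (∀ y ∈ A, β x y = 0) → x = 1

theorem af_of (hm : IsMinNormalBy V K) (h1 : ∀ x ∈ V, ∀ y ∈ V, ∀ z ∈ V, β (x * y) z = β x z + β y z)
    (h2 : ε = 1 ∨ ε = -1) (h3 : ∀ x ∈ V, ∀ y ∈ V, β x y = ε * β y x)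
    (h4 : ∀ g ∈ K, ∀ x ∈ V, ∀ y ∈ V, β (g * x * g⁻¹) (g * y * g⁻¹) = β x y)
    (h5 : ∃ x ∈ V, ∃ y ∈ V, β x y ≠ 0) : AF K V β ε := by
  have h0 : ∀ y ∈ V, β 1 y = 0 := fun y hy => by simpa using h1 1 (one_mem _) 1 (one_mem _) y hy
  let X : Subgroup G :=
    { carrier := {x | x ∈ V ∧ ∀ y ∈ V, β x y = 0}
      one_mem' := ⟨one_mem _, h0⟩
      mul_mem' := fun {a b} ha hb => ⟨mul_mem ha.1 hb.1, fun y hy => by
        rw [h1 a ha.1 b hb.1 y hy, ha.2 y hy, hb.2 y hy, add_zero]⟩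
      inv_mem' := fun {a} ha => ⟨inv_mem ha.1, fun y hy => by
        simpa [h0 y hy, ha.2 y hy] using (h1 a ha.1 _ (inv_mem ha.1) y hy).symm⟩ }
  refine ⟨hm.norm, h1, h2, h3, h4, fun x hx e => ?_⟩
  by_contra x1
  obtain ⟨a, ha, b, hb, e'⟩ := h5
  refine e' (((hm.eq_of_ne_bot (X := X) (fun _ h => h.1) (le_norm_iff.2 fun g hg a ha =>
    ⟨conj_mem_of_norm (hm.norm hg) ha.1, fun y hy => ?_⟩)
    fun e1 => x1 (mem_bot.1 (e1 ▸ ⟨hx, e⟩))).ge ha).2 b hb)
  rw [← ha.2 _ (conj_mem_of_norm' (hm.norm hg) hy),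
    ← h4 g hg a ha.1 _ (conj_mem_of_norm' (hm.norm hg) hy)]
  congr 1; group

theorem exists_af [Finite G] [Fact r.Prime] (hV : IsElementaryAbelian r V) (hm : IsMinNormalBy V K)
    (hr : ∀ g ∈ K, ∃ k ∈ K, k * g * k⁻¹ = g⁻¹) : ∃ (β : G → G → ZMod r) (ε : ZMod r), AF K V β ε := by
  classical
  obtain ⟨W, _, _, _, ρ, ι, h⟩ := exists_isLin_normalizer (AlgebraicClosure (ZMod r)) hV
  have : Nontrivial W := h.nontrivial_iff.2 (mt (subgroupOf_eq_bot_iff le_normalizer).1 hm.ne_bot)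
  obtain ⟨B, b0, hB⟩ := exists_form_rep (ρ.comp (inclusion hm.norm)) fun g =>
    let ⟨k, hk, e⟩ := hr g g.2; ⟨⟨k, hk⟩, Subtype.ext e⟩
  obtain ⟨a, ha, b, hb, e⟩ : ∃ a ∈ V.subgroupOf 𝐍(V), ∃ b ∈ V.subgroupOf 𝐍(V), B (ι a) (ι b) ≠ 0 := by
    by_contra! e
    exact b0 (h.ext fun a ha => h.ext fun b hb => by simpa using e a ha b hb)
  obtain ⟨φ, hφ⟩ := dual_one (ZMod r) e
  let j : G → W := fun x => if hx : x ∈ 𝐍(V) then ι ⟨x, hx⟩ else 0
  have j0 : ∀ x : 𝐍(V), j x = ι x := fun x => dif_pos x.2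
  have j1 : ∀ x ∈ V, ∀ y ∈ V, j (x * y) = j x + j y := fun x hx y hy => by
    rw [j0 ⟨x, le_normalizer hx⟩, j0 ⟨y, le_normalizer hy⟩, ← h.map_mul _ hx _ hy, ← j0]; rfl
  have j2 : ∀ g (hg : g ∈ K), ∀ x ∈ V, j (g * x * g⁻¹) = ρ.comp (inclusion hm.norm) ⟨g, hg⟩ (j x) :=
    fun g hg x hx => by
      rw [j0 ⟨x, le_normalizer hx⟩, MonoidHom.comp_apply, h.conj _ _ hx, ← j0]; rfl
  by_cases e1 : ∃ x ∈ V, ∃ y ∈ V, φ (B (j x) (j y)) + φ (B (j y) (j x)) ≠ 0
  · refine ⟨_, 1, af_of hm (fun x hx y hy z hz => ?_) (Or.inl rfl) (fun x _ y _ => by ring)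
      (fun g hg x hx y hy => by rw [j2 g hg x hx, j2 g hg y hy, hB, hB]) e1⟩
    simp only [j1 x hx y hy, map_add, LinearMap.add_apply]; ring
  · push Not at e1
    refine ⟨fun x y => φ (B (j x) (j y)), -1, af_of hm (fun x hx y hy z hz => ?_) (Or.inr rfl)
      (fun x hx y hy => by linear_combination e1 x hx y hy)
      (fun g hg x hx y hy => by rw [j2 g hg x hx, j2 g hg y hy, hB]) ⟨a, ha, b, hb, by
        rw [j0, j0, hφ]; exact one_ne_zero⟩⟩
    simp only [j1 x hx y hy, map_add, LinearMap.add_apply]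

end Cfsg.Agent.AD
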