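import Cfsg.Agent.Lib.AD.Tools

/-!
# In a solvable rational group the Sylow `p`-subgroups are normal for `p ≥ 5`
-/

set_option autoImplicit false

namespace Cfsg.Agent.AD

open Subgroup Cfsg.Agent.OO Cfsg.Agent.Coprime
open scoped commutatorElement Pointwise

universe u

theorem card_quot_lt {G : Type u} [Group G] [Finite G] {U : Subgroup G} (h : U ≠ ⊥) :
    Nat.card (G ⧸ U) < Nat.card G := by
  rw [← U.card_mul_index]
  exact lt_mul_of_one_lt_left Nat.card_pos (one_lt_card h)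

theorem map_top {G : Type u} [Group G] (U : Subgroup G) [U.Normal] :
    (⊤ : Subgroup G).map (QuotientGroup.mk' U) = ⊤ :=
  map_top_of_surjective _ (QuotientGroup.mk'_surjective U)

theorem cop_of_pow {G : Type u} [Group G] {x : G} {p j : ℕ} (hp : p.Prime) (h : x ^ p = 1)
    (h0 : j ≠ 0) (hj : j < p) : j.Coprime (orderOf x) :=
  (Nat.coprime_of_lt_prime h0 hj hp).symm.coprime_dvd_right (orderOf_dvd_of_pow_eq_one h)

theorem normal_syl {p : ℕ} [hp : Fact p.Prime] (h5 : 5 ≤ p) : ∀ (G : Type u) [Group G] [Finite G],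
    Group.IsSolvable G → Rat (⊤ : Subgroup G) → ∀ P : Subgroup G, Syl p P ⊤ → P.Normal := by
  refine Core.induction_on_card fun G _ _ ih hs hr P hP => ?_
  have q : ∀ U : Subgroup G, U.Normal → U ≠ ⊥ → (P ⊔ U).Normal := fun U _ h0 => by
    have := (ih (G ⧸ U) (card_quot_lt h0) inferInstance (map_top U ▸ hr.map _) _
      (map_top U ▸ (hP.hall.map _).syl)).comap (QuotientGroup.mk' U)
    rwa [comap_map_eq, QuotientGroup.ker_mk'] at this
  by_contra hn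
  have o : ∀ X : Subgroup G, X.Normal → IsPGroup p X → X = ⊥ := fun X hX h1 => by
    by_contra h0
    exact hn (sup_eq_left.2 (hP.le_of_normal (normalIn_top.2 hX) h1) ▸ q X hX h0)
  have P0 : P ≠ ⊥ := by rintro rfl; exact hn inferInstance
  obtain ⟨U, hU, -⟩ := exists_minNormalBy (H := ⊤) (M := ⊤) (ne_bot_of_le_ne_bot P0 le_top)
    (le_norm_self _)
  have nU : U.Normal := normalizer_eq_top_iff.1 (top_le_iff.1 hU.norm)
  obtain ⟨r, hr', hUa⟩ := hU.exists_abelem inferInstance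
  have := Fact.mk hr'
  have rp : p ≠ r := by rintro rfl; exact hU.ne_bot (o U nU (abelem_isPGroup hUa))
  have fr : U ⊔ 𝐍(P) = ⊤ := top_le_iff.1 <| (((hP.hall.mono le_sup_left le_top).syl.frattini
    (normalIn_top.2 (q U nU hU.ne_bot))).sup_eq.ge).trans
    (sup_le (sup_le (le_sup_of_le_right (le_norm_self _)) le_sup_left) (le_sup_of_le_right inf_le_right))
  have nn : ∀ X : Subgroup G, U ≤ 𝐍(X) → 𝐍(P) ≤ 𝐍(X) → ⊤ ≤ 𝐍(X) := fun X h1 h2 =>
    fr.ge.trans (sup_le h1 h2)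
  have nH : 𝐍(P) ≤ 𝐍(U) := le_top.trans hU.norm
  have hi : U ⊓ 𝐍(P) = ⊥ := (hU.eq_bot_or_eq inf_le_left (nn _ (le_norm_of_ab (abelem_ab hUa) inf_le_left)
    (le_norm_inf nH (le_norm_self _)))).resolve_right fun e => hn <| normalizer_eq_top_iff.1 <| by
      rw [← fr, sup_eq_right.2 (inf_eq_left.1 e)]
  have hH : Rat 𝐍(P) := fun x hx j hj =>
    let ⟨k, _, e⟩ := hr x trivial j hj
    let ⟨_, _, h, hh, _, e⟩ := conj_compl nH hi (fr.ge (mem_top k)) hx (pow_mem hx j) e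
    ⟨h, hh, e⟩
  obtain ⟨V, hm, hVP⟩ := exists_minNormalBy (Zc_ne_bot hP.nil P0) (norm_le_norm_Zc P)
  have hVP' := hVP.trans (Zc_le P)
  have hV := hm.abelem_of_isPGroup (hP.isPGroup.to_le hVP')
  have hVH : V ≤ 𝐍(P) := le_norm_of_le hVP'
  obtain ⟨β, ε, hβ⟩ := exists_af hV hm hH.real
  have hc := coprime_of_isPGroup_ne (abelem_isPGroup hV) (abelem_isPGroup hUa) rp
  have h0 : U ⊓ 𝐂(V) = ⊥ := (hU.eq_bot_or_eq inf_le_left (nn _ (le_norm_of_ab (abelem_ab hUa) inf_le_left)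
    (le_norm_inf nH (le_norm_cent hm.norm)))).resolve_right fun e => hm.ne_bot <| o V
      (normalizer_eq_top_iff.1 (top_le_iff.1 (nn V (le_norm_of_le_cent (inf_eq_left.1 e)) hm.norm)))
      (abelem_isPGroup hV)
  obtain ⟨B, hB, hBi, hW⟩ : ∃ B ≤ V, B.relIndex V = p ∧ U ⊓ 𝐂(B) ≠ ⊥ := by
    by_contra! e
    exact hU.ne_bot (le_bot_iff.1 (le_of_forall_hyperplane hV.1 hV.2 hm.ne_bot (hVH.trans nH) hc
      fun B h1 h2 => (e B h1 h2).le))
  have cov := covBy_of_relIndex_prime hB (hBi ▸ hp.out)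
  obtain ⟨v, hv, v1, hv0⟩ := hβ.exists_perp cov.lt
  have pe : hβ.perp hv = B := (cov.eq_or_eq (c := hβ.perp hv) (fun y hy => ⟨hB hy, hv0 y hy⟩) fun _ hy => hy.1).resolve_right
    fun e => v1 (hβ.eq_one hv e.ge)
  have vB : v ∈ B := pe.le ⟨hv, hβ.alt h5 hv (hH v (hVH hv) 2
    (cop_of_pow hp.out (hV.2 v hv) two_ne_zero (by omega)))⟩
  obtain ⟨z, hz, zB⟩ := SetLike.exists_of_lt cov.lt
  obtain ⟨γ, δ, hγ⟩ := exists_af hUa hU hr.real
  have fpf : ∀ z ∈ V, z ∉ B → U ⊓ 𝐂(B) ⊓ 𝐂[z] = ⊥ := fun z hz zB => by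
    rw [inf_assoc, ← cent_zpowers, ← cent_sup, (cov.eq_or_eq le_sup_left
      (sup_le hB (zpowers_le.2 hz))).resolve_left fun e => zB (e.le (mem_sup_right (mem_zpowers z))), h0]
  refine hW (le_bot_iff.1 ((le_inf le_rfl ((hγ.res (abelem_ab hUa) le_top (coprime_card_mono hc hB le_rfl)
    le_top (le_norm_of_ab hV.1 hB)).polar hz (fun u hu => ?_) (fpf z hz zB))).trans
    (fpf _ (pow_mem hz 6) fun e => zB (pe.le ⟨hz, ?_⟩)).le))
  · obtain ⟨k, -, k1, k2⟩ := hr.pair trivial trivial (mem_cent_iff.1 hu.2 v vB).symm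
      (((Nat.coprime_primes hr' hp.out).2 rp.symm).coprime_dvd_left
        (orderOf_dvd_of_pow_eq_one (hUa.2 u hu.1)) |>.coprime_dvd_right
        (orderOf_dvd_of_pow_eq_one (hV.2 v hv))) (cop_of_pow hp.out (hV.2 v hv) two_ne_zero (by omega))
    obtain ⟨u', hu', h, hh, rfl, k3⟩ := conj_compl nH hi (fr.ge (mem_top k)) (hVH hv)
      (pow_mem (hVH hv) 2) k2
    have h1 : h * u * h⁻¹ = u := by
      rw [show h * u * h⁻¹ = u'⁻¹ * (u' * h * u * (u' * h)⁻¹) * u' by group, k1, mul_assoc,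
        ab_iff.1 (abelem_ab hUa) u hu.1 u' hu', inv_mul_cancel_left]
    have h2 := conj_mem_of_norm' (hm.norm hh) hz
    have h3 := hβ.inv h hh v hv _ h2
    rw [k3, show h * (h⁻¹ * z * h) * h⁻¹ = z by group, hβ.pow_left hv hz] at h3
    have h4 : (z ^ 2)⁻¹ * (h⁻¹ * z * h) ∈ B := pe.le ⟨mul_mem (inv_mem (pow_mem hz 2)) h2, by
      rw [hβ.add_right (inv_mem (pow_mem hz 2)) h2 hv, hβ.inv_right hv (pow_mem hz 2),
        hβ.pow_right hv hz, h3, neg_add_cancel]⟩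
    have h5 := mem_cent_iff.1 hu.2 _ h4
    rw [← hγ.inv h trivial _ (nU.conj_mem _ hu.1 _) u hu.1, h1]
    congr 1
    rw [show h * (z ^ 2 * u * (z ^ 2)⁻¹) * h⁻¹ = h * z ^ 2 * (u * ((z ^ 2)⁻¹ * (h⁻¹ * z * h))) *
      (h⁻¹ * z⁻¹) by group, ← h5, show h * z ^ 2 * ((z ^ 2)⁻¹ * (h⁻¹ * z * h) * u) * (h⁻¹ * z⁻¹) =
      z * (h * u * h⁻¹) * z⁻¹ by group, h1]
  · have h1 := (pe.ge e).2
    rw [hβ.pow_right hv hz] at h1
    refine (mul_eq_zero.1 h1).resolve_left fun e6 => ?_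
    have h2 := (ZMod.natCast_eq_zero_iff _ _).1 e6
    have := Nat.le_of_dvd (by norm_num) h2
    interval_cases p
    · omega
    · exact absurd hp.out (by norm_num)

end Cfsg.Agent.AD
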