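import Cfsg.Agent.Lib.AD.Tools

/-!
# Numerical and linear lemmas
-/

set_option autoImplicit false

namespace Cfsg.Agent.AD

open Subgroup Module Cfsg.Agent.OO Cfsg.Agent.Coprime Cfsg.Agent.Mod

universe u

/-- `{2, 3}`-numbers -/
def Sm (n : ℕ) : Prop := ∀ q : ℕ, q.Prime → q ∣ n → q = 2 ∨ q = 3

theorem Sm.of_dvd {m n : ℕ} (h : Sm n) (hd : m ∣ n) : Sm m := fun q hq e => h q hq (e.trans hd)

theorem Sm.three {n : ℕ} (h : Sm n) (h2 : n % 2 = 1) (h1 : n ≠ 1) : n % 3 = 0 := by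
  obtain ⟨q, hq, e⟩ := Nat.exists_prime_and_dvd h1
  rcases h q hq e with rfl | rfl <;> omega

theorem num_two {p : ℕ} (h2 : p % 2 = 1) (h3 : p % 3 ≠ 0) (h1 : 1 < p) (d : ℕ) :
    2 ≤ d → Sm (p ^ d - 1) → d = 2 := by
  induction d using Nat.strong_induction_on with
  | _ d ih =>
  intro hd h
  have o : ∀ e, p ^ e % 2 = 1 := fun e => by simp [Nat.pow_mod, h2]
  obtain ⟨e, rfl | rfl⟩ := Nat.even_or_odd' d
  · by_contra he
    obtain rfl := ih e (by omega) (by omega) (h.of_dvd (Nat.pow_sub_one_dvd_pow_sub_one _ ⟨2, by ring⟩))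
    have a1 : p ^ 2 % 4 = 1 := by
      obtain e | e : p % 4 = 1 ∨ p % 4 = 3 := by omega
      all_goals simp [Nat.pow_mod, e]
    have a2 : p ^ 2 % 3 = 1 := by
      obtain e | e : p % 3 = 1 ∨ p % 3 = 2 := by omega
      all_goals simp [Nat.pow_mod, e]
    have a3 := Nat.one_lt_pow two_ne_zero h1
    have := (h.of_dvd (m := (p ^ 2 + 1) / 2) ((Nat.div_dvd_of_dvd (by omega)).trans
      ⟨p ^ 2 - 1, by rw [← Nat.sq_sub_sq, ← pow_mul, one_pow]⟩)).three (by omega) (by omega)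
    omega
  · exfalso
    have s : ∀ x n : ℕ, 1 < x → (∑ i ∈ Finset.range n, x ^ i) ∣ x ^ n - 1 := fun x n hx => by
      have := geom_sum_mul_add (x - 1) n
      rw [Nat.sub_add_cancel hx.le] at this
      exact ⟨x - 1, by omega⟩
    have b : ∀ n, (∑ i ∈ Finset.range (2 * n + 1), p ^ i) % 2 = 1 ∧
        ((∑ i ∈ Finset.range (2 * n + 1), p ^ i) % 3 = if p % 3 = 1 then (2 * n + 1) % 3 else 1) ∧
        n < ∑ i ∈ Finset.range (2 * n + 1), p ^ i := fun n => by
      induction n with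
      | zero => simp
      | succ n ih =>
        have a1 := o (2 * n + 1)
        have a2 := o (2 * n + 1 + 1)
        have a3 : p ^ (2 * n) % 3 = 1 := by
          obtain e | e : p % 3 = 1 ∨ p % 3 = 2 := by omega
          all_goals simp [pow_mul, Nat.pow_mod, e]
        have a4 : p ^ (2 * n + 1) % 3 = p % 3 := by rw [pow_succ, Nat.mul_mod, a3]; simp
        have a5 : p ^ (2 * n + 1 + 1) % 3 = 1 := by
          obtain e | e : p % 3 = 1 ∨ p % 3 = 2 := by omega
          all_goals rw [pow_succ, Nat.mul_mod, a4, e]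
        rw [show 2 * (n + 1) + 1 = 2 * n + 1 + 1 + 1 by ring, Finset.sum_range_succ, Finset.sum_range_succ]
        generalize (∑ i ∈ Finset.range (2 * n + 1), p ^ i) = S at ih ⊢
        generalize p ^ (2 * n + 1 + 1) = y at a2 a5 ⊢
        generalize p ^ (2 * n + 1) = x at a1 a4 ⊢
        split_ifs at ih ⊢ <;> omega
    obtain ⟨b1, b2, b3⟩ := b e
    have b4 := (h.of_dvd (s p _ h1)).three b1 (by omega)
    split_ifs at b2 with b5
    · obtain ⟨f, hf⟩ : 3 ∣ 2 * e + 1 := by omega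
      have c1 := Nat.one_lt_pow (show f ≠ 0 by omega) h1
      have c2 := s _ 3 c1
      have c3 := o f
      have c4 : p ^ f % 3 = 1 := by simp [Nat.pow_mod, b5]
      rw [← pow_mul, mul_comm, ← hf] at c2
      generalize p ^ f = x at c1 c2 c3 c4
      obtain ⟨y, rfl⟩ : ∃ y, x = 6 * y + 1 := ⟨x / 6, by omega⟩
      have := (h.of_dvd (m := 12 * (y * y) + 6 * y + 1) (Dvd.dvd.trans ⟨3, by
        simp [Finset.sum_range_succ]; ring⟩ c2)).three (by omega) (by omega)
      omega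
    · omega

theorem num_sixteen {p : ℕ} (h2 : p % 2 = 1) (h7 : 7 ≤ p) (h : Sm (p ^ 2 - 1)) : 16 ∣ p ^ 2 - 1 := by
  have e : p ^ 2 - 1 = (p + 1) * (p - 1) := by rw [← Nat.sq_sub_sq, one_pow]
  rw [e] at h ⊢
  have a := h.of_dvd (Nat.dvd_mul_right _ _)
  have b := h.of_dvd (Nat.dvd_mul_left _ _)
  obtain e | e | e | e : p % 8 = 1 ∨ p % 8 = 3 ∨ p % 8 = 5 ∨ p % 8 = 7 := by omega
  · exact mul_dvd_mul (a := 2) (c := 8) (by omega) (by omega)
  · have := (a.of_dvd (Nat.div_dvd_of_dvd (show 4 ∣ _ by omega))).three (by omega) (by omega)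
    have := (b.of_dvd (Nat.div_dvd_of_dvd (show 2 ∣ _ by omega))).three (by omega) (by omega)
    omega
  · have := (a.of_dvd (Nat.div_dvd_of_dvd (show 2 ∣ _ by omega))).three (by omega) (by omega)
    have := (b.of_dvd (Nat.div_dvd_of_dvd (show 4 ∣ _ by omega))).three (by omega) (by omega)
    omega
  · exact mul_dvd_mul (a := 8) (c := 2) (by omega) (by omega)

theorem sq_eq_zero_of_trace {k F : Type*} [Field k] [AddCommGroup F] [Module k F]
    [FiniteDimensional k F] (h : finrank k F = 2) (h2 : (2 : k) ≠ 0) {f : End k F}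
    (h1 : LinearMap.trace k F f = 0) (h3 : LinearMap.trace k F (f * f) = 0) : f * f = 0 := by
  let b := finBasisOfFinrankEq k F h
  rw [LinearMap.trace_eq_matrix_trace k b, Matrix.trace_fin_two] at h1 h3
  refine (LinearMap.toMatrix b b).injective ?_
  rw [LinearMap.toMatrix_mul] at h3 ⊢
  generalize LinearMap.toMatrix b b f = M at h1 h3
  simp only [Matrix.mul_apply, Fin.sum_univ_two] at h3
  have h4 : M 0 0 * M 0 0 + M 0 1 * M 1 0 = 0 :=
    (mul_eq_zero.1 (by linear_combination h3 + (M 0 0 - M 1 1) * h1)).resolve_left h2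
  ext i j
  fin_cases i <;> fin_cases j <;> simp [Matrix.mul_apply, Fin.sum_univ_two]
  · exact h4
  · linear_combination M 0 1 * h1
  · linear_combination M 1 0 * h1
  · linear_combination h4 + (M 1 1 - M 0 0) * h1

theorem false_of_trace {k F : Type*} [Field k] [AddCommGroup F] [Module k F]
    [FiniteDimensional k F] (h : finrank k F = 2) (h2 : (2 : k) ≠ 0) {f : End k F} (t3 : f ^ 4 = -1)
    {i j : ℕ} (i1 : i ≡ 5 [MOD 8]) (j1 : j ≡ 3 [MOD 4])
    (t5 : LinearMap.trace k F (f ^ i) = LinearMap.trace k F f)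
    (t6 : LinearMap.trace k F ((f ^ 2) ^ j) = LinearMap.trace k F (f ^ 2)) : False := by
  have t4 : f ^ 8 = 1 := by rw [show 8 = 4 * 2 from rfl, pow_mul, t3]; simp
  rw [pow_eq_pow_of_modEq i1 t4, pow_succ, t3, neg_one_mul, map_neg] at t5
  rw [pow_eq_pow_of_modEq j1 (by rw [← pow_mul, t4]), ← pow_mul, show 2 * 3 = 4 + 2 from rfl,
    pow_add, t3, neg_one_mul, map_neg, sq] at t6
  have t7 := sq_eq_zero_of_trace h h2 ((mul_eq_zero.1 (by linear_combination -t5)).resolve_left h2)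
    ((mul_eq_zero.1 (by linear_combination -t6)).resolve_left h2)
  have : Nontrivial F := finrank_pos_iff.1 (by omega : 0 < finrank k F)
  rw [show 8 = 2 + 6 from rfl, pow_add, sq, t7, zero_mul] at t4
  exact zero_ne_one t4

theorem trace_false {G : Type u} [Group G] [Finite G] {p : ℕ} [hp : Fact p.Prime] (h2 : p ≠ 2)
    (hr : Rat (⊤ : Subgroup G)) {V D : Subgroup G} [V.Normal] (hV : IsElementaryAbelian p V)
    (hD : ¬ p ∣ ♯D) (hc : ♯(V ⊓ 𝐂(D)) = p ^ 2) {a : G} (ha : a ∈ 𝐍(D))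
    (e : ∀ w ∈ V ⊓ 𝐂(D), a ^ 4 * w * (a ^ 4)⁻¹ = w⁻¹) : False := by
  classical
  obtain ⟨M, _, _, _, ρ, ι, h⟩ := exists_isLin (ZMod p) hV
  have := Fintype.ofFinite D
  have hf : finrank (ZMod p) (fix ρ D) = 2 :=
    Nat.pow_right_injective hp.out.two_le ((h.card_fix D).symm.trans hc)
  let σ := Representation.subrepresentation (ρ.comp 𝐍(D).subtype) (fix ρ D)
    fun g v hv => isInv_fix (ρ := ρ) (Q := D) le_rfl g.1 g.2 v hv
  have t1 : ∀ y : 𝐍(D), ∑ d : D, LinearMap.trace _ _ (ρ (y * d)) =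
      (♯D : ZMod p) * LinearMap.trace _ _ (σ y) := fun y => by
    rw [← map_sum, ← LinearMap.trace_restrict_eq_of_forall_mem (fix ρ D) _ fun x => ?_, ← smul_eq_mul,
      ← map_smul]
    · congr 1
      ext x
      simp [σ, Representation.subrepresentation, LinearMap.sum_apply, fun d : D => x.2 d d.2,
        ← Nat.cast_smul_eq_nsmul (ZMod p)]
    · simp only [map_mul, ← Finset.mul_sum]
      refine isInv_fix (ρ := ρ) (Q := D) le_rfl y.1 y.2 _ fun d hd => ?_
      rw [LinearMap.sum_apply, map_sum]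
      exact Fintype.sum_equiv (Equiv.mulLeft ⟨d, hd⟩) _ _ fun c => by simp
  have t2 : ∀ (y : 𝐍(D)) (j : ℕ), j.Coprime (Nat.card G) →
      LinearMap.trace _ _ (σ y ^ j) = LinearMap.trace _ _ (σ y) := fun y j hj => by
    refine mul_left_cancel₀ (natCast_ne_zero_of_not_dvd (ZMod p) hD) ?_
    have m : ∀ d ∈ D, ∀ n : ℕ, ((y : G) ^ n)⁻¹ * (y * d) ^ n ∈ D := fun d hd n => by
      induction n with
      | zero => simp
      | succ n ih =>
        rw [show ((y : G) ^ (n + 1))⁻¹ * (y * d) ^ (n + 1) =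
          (y : G)⁻¹ * (((y : G) ^ n)⁻¹ * (y * d) ^ n) * y * d by rw [pow_succ, pow_succ]; group]
        exact mul_mem (conj_mem_of_norm' y.2 ih) hd
    rw [← map_pow, ← t1, ← t1]
    refine (Fintype.sum_bijective (fun d : D => (⟨_, m d d.2 j⟩ : D)) (Finite.injective_iff_bijective.1
      fun c d e => Subtype.ext (mul_left_cancel ((powCoprime hj.symm).injective
        (mul_left_cancel (congrArg Subtype.val e))))) _ _ fun d => ?_).symm
    obtain ⟨k, -, e⟩ := hr (y * d) trivial j (hj.coprime_dvd_right (orderOf_dvd_natCard _))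
    rw [Subgroup.coe_pow, mul_inv_cancel_left, ← e, map_mul ρ (k * _), LinearMap.trace_mul_comm,
      ← map_mul, inv_mul_cancel_left]
  have t3 : σ ⟨a, ha⟩ ^ 4 = -1 := by
    rw [← map_pow]
    ext ⟨x, hx⟩
    change ρ (a ^ 4) x = -x
    rw [h.fix_eq] at hx
    refine Submodule.span_induction ?_ (by simp) (fun x y _ _ h1 h2 => by rw [map_add, h1, h2, neg_add])
      (fun c x _ h1 => by rw [map_smul, h1, smul_neg]) hx
    rintro _ ⟨w, hw, rfl⟩
    rw [h.conj _ w hw.1, e w hw, h.map_inv hw.1]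
  have n2 : (2 : ZMod p) ≠ 0 := natCast_ne_zero_of_not_dvd (ZMod p) (n := 2)
    fun e => h2 ((Nat.prime_dvd_prime_iff_eq hp.out Nat.prime_two).1 e)
  obtain ⟨i, i1, i2⟩ := exists_cop (show Nat.Coprime 5 8 by norm_num) (Nat.card_pos (α := G)).ne' (by norm_num)
  obtain ⟨j, j1, j2⟩ := exists_cop (show Nat.Coprime 3 4 by norm_num) (Nat.card_pos (α := G)).ne' (by norm_num)
  have t6 := t2 (⟨a, ha⟩ ^ 2) j j2
  rw [map_pow σ] at t6
  exact false_of_trace hf n2 t3 i1 j1 (t2 ⟨a, ha⟩ i i2) t6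

end Cfsg.Agent.AD
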