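import Cfsg.Agent.Lib.AD.Num
import Cfsg.Agent.Lib.AD.Normal
import Cfsg.Agent.Lib.PGrp.RankOne
import Cfsg.Agent.Lib.Coprime.IndexBound

/-!
# Semiregular groups of automorphisms
-/

set_option autoImplicit false

namespace Cfsg.Agent.AD

open Subgroup Cfsg.Agent.OO Cfsg.Agent.Coprime
open scoped commutatorElement Pointwise

universe u

theorem exists_order {X : Type u} [Group X] [Finite X] {J : Subgroup X}
    (h : ∀ x ∈ J, ∀ y ∈ J, orderOf x = 2 → orderOf y = 2 → x = y) {j : ℕ}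
    (hj : 2 ^ (j + 1) ∣ ♯J ∨ j = 2 ∧ 4 ∣ ♯J) : ∃ x ∈ J, orderOf x = 2 ^ j := by
  obtain ⟨S, hS⟩ := exists_syl 2 J
  have h1 : ∀ i, 2 ^ i ∣ ♯J → 2 ^ i ∣ ♯S := fun i e => by
    rw [hS.card_eq_partn]
    exact dvd_partn (card_pos' J).ne' e (isPiNum_singleton_pow Nat.prime_two i)
  suffices ∃ x : S, 2 ^ j ∣ orderOf x by
    obtain ⟨x, e⟩ := this
    exact ⟨x ^ (orderOf x / 2 ^ j), pow_mem (hS.le x.2) _, by
      rw [← Subgroup.coe_pow, orderOf_coe, orderOf_pow_orderOf_div (orderOf_pos x).ne' e]⟩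
  rcases PGrp.isCyclic_or_quaternion_gens_of_rank_le_one hS.isPGroup (PGrp.rank_le_one_of_unique
    fun x y hx hy => (Subtype.ext (h x (hS.le x.2) y (hS.le y.2) (by rw [orderOf_coe, hx])
      (by rw [orderOf_coe, hy])) : x = y) ▸ mem_zpowers x) with hc | ⟨-, n, x, -, h2, h3, h4, -⟩
  · obtain ⟨x, hx⟩ := hc.exists_ofOrder_eq_natCard
    exact ⟨x, hx ▸ h1 j (hj.elim (fun e => (pow_dvd_pow 2 j.le_succ).trans e) fun e => by
      rw [e.1]; exact e.2)⟩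
  · refine ⟨x, h4 ▸ pow_dvd_pow 2 (hj.elim (fun e => ?_) fun e => e.1 ▸ h2)⟩
    have := (Nat.pow_dvd_pow_iff_le_right one_lt_two).1 (h3 ▸ h1 _ e)
    omega

section

variable {A : Type u} [Group A] [Finite A] {J : Subgroup (MulAut A)} (hA : ∀ a b : A, a * b = b * a)
  (hs : ∀ σ ∈ J, ∀ a, σ a = a → a ≠ 1 → σ = 1)

include hA hs

omit [Finite A] in
theorem inv_of_invol {σ : MulAut A} (h : σ ∈ J) (ho : orderOf σ = 2) (a : A) : σ a = a⁻¹ := by
  refine eq_inv_of_mul_eq_one_right (of_not_not fun e => ?_)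
  have h1 : σ (σ a) = a := by rw [← MulAut.mul_apply, ← sq, ← ho, pow_orderOf_eq_one]; rfl
  rw [hs σ h _ (by rw [map_mul, h1, hA]) e, orderOf_one] at ho
  omega

theorem exists_neg {j : ℕ} (hj : 2 ^ (j + 2) ∣ ♯J ∨ j = 1 ∧ 4 ∣ ♯J) :
    ∃ σ ∈ J, ∀ a, (σ ^ 2 ^ j) a = a⁻¹ := by
  obtain ⟨σ, h, e⟩ := exists_order (j := j + 1) (fun x hx y hy h1 h2 => MulEquiv.ext fun a => by
    rw [inv_of_invol hA hs hx h1, inv_of_invol hA hs hy h2]) (hj.imp_right fun e => ⟨by omega, e.2⟩)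
  refine ⟨σ, h, inv_of_invol hA hs (pow_mem h _) ?_⟩
  rw [orderOf_pow' _ (by positivity), e, pow_succ, Nat.gcd_mul_right_left, Nat.mul_div_cancel_left _
    (by positivity)]

theorem plane (hc : Nat.card A = 25) (h5 : ∀ a : A, a ^ 5 = 1) (hJ : ♯J = 24)
    (hsc : ∀ σ ∈ J, ¬ (∀ a, σ a = a ^ 2) ∧ ¬ ∀ a, σ a = a ^ 3) {g k : MulAut A} (hg : g ∈ J)
    (hk : k ∈ J) (ho : orderOf g = 3) (e : k * g * k⁻¹ = g⁻¹) : False := by
  have : Fact (Nat.Prime 3) := ⟨Nat.prime_three⟩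
  have g3 : g ^ 3 = 1 := ho ▸ pow_orderOf_eq_one g
  have g1 : g ≠ 1 := by rintro rfl; simp at ho
  have h4 : 4 ∣ ♯(J ⊓ 𝐂[g]) := by
    by_contra h4
    obtain ⟨z, hz, zo⟩ := cauchy Nat.prime_two (hJ ▸ by norm_num : 2 ∣ ♯J)
    have a1 := zo ▸ orderOf_dvd_card (H := J ⊓ 𝐂[g]) ⟨hz, mem_cent1.2 (MulEquiv.ext fun a => by
      simp [inv_of_invol hA hs hz zo])⟩
    have a2 := ho ▸ orderOf_dvd_card (H := J ⊓ 𝐂[g]) ⟨hg, mem_cent1_self g⟩
    have a3 := hJ ▸ card_inf_mul_relIndex 𝐂[g] J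
    have a4 := hJ ▸ card_mul_relIndex (inf_le_left : J ⊓ 𝐍(zpowers g) ≤ J)
    have a5 : J ⊓ 𝐂[g] < J ⊓ 𝐍(zpowers g) := lt_of_le_of_ne
      (inf_le_inf_left _ (cent_zpowers g ▸ cent_le_norm _)) fun e' => by
        have h1 := mem_cent1_iff_conj.1 (e'.ge ⟨hk, mem_norm_of_conj_le (by
          rw [conj_zpowers, e, zpowers_inv])⟩).2
        have h2 := orderOf_dvd_of_pow_eq_one (show g ^ 2 = 1 by
          rw [sq]; nth_rw 1 [← h1, e]; exact inv_mul_cancel g)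
        rw [ho] at h2
        omega
    have a6 := card_dvd a5.le
    have a7 := card_lt a5
    have hS : Syl 3 (zpowers g) J := ⟨zpowers_le.2 hg, abelem_isPGroup (abelem_zpowers g3), fun h => by
      have := card_mul_relIndex (zpowers_le.2 hg)
      rw [Nat.card_zpowers, ho, hJ] at this
      omega⟩
    rw [inf_comm] at a3
    have a8 : ♯(J ⊓ 𝐂[g]) = 6 := by
      have := Nat.le_of_dvd (by norm_num) (Dvd.intro _ a3)
      have := Dvd.intro _ a3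
      interval_cases ♯(J ⊓ 𝐂[g]) <;> omega
    have a9 : J ≤ 𝐍(zpowers g) := by
      rw [a8] at a6 a7
      obtain ⟨m, a6⟩ := a6
      obtain h | h : (J ⊓ 𝐍(zpowers g)).relIndex J = 1 ∨ (J ⊓ 𝐍(zpowers g)).relIndex J = 2 := by
        rw [a6] at a4 a7
        generalize (J ⊓ 𝐍(zpowers g)).relIndex J = i at a4
        have : i ≤ 2 := by nlinarith [Nat.mul_le_mul_right i (show 2 ≤ m by omega)]
        interval_cases i <;> omega
      · exact (relIndex_eq_one.1 h).trans inf_le_right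
      · exact ((le_inf le_rfl (normalIn_iff_subgroupOf.2 ⟨inf_le_left,
          normal_of_index_eq_two h⟩).norm).trans (hS.inf_norm_eq le_rfl inf_le_left).le).trans
          inf_le_right
    have b := Set.ncard_le_ncard (s := {y | ∃ k ∈ J, y = k * g * k⁻¹}) (t := zpowers g)
      (by rintro _ ⟨k, hk, rfl⟩; exact conj_mem_of_norm (a9 hk) (mem_zpowers g))
    rw [← relIndex_centralizer_eq_ncard, ← Nat.card_coe_set_eq, SetLike.coe_sort_coe, Nat.card_zpowers,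
      ho] at b
    rw [a8] at a3
    omega
  obtain ⟨q, hq, e⟩ := exists_neg hA (J := J ⊓ 𝐂[g]) (fun σ h => hs σ h.1) (Or.inr ⟨rfl, h4⟩)
  have q2 : ∀ a, q (q a) = a⁻¹ := e
  let L : Subgroup A :=
    { carrier := {a | q a = a ^ 2}
      one_mem' := by simp
      mul_mem' := fun {a b} ha hb => by
        rw [Set.mem_ofPred_eq, map_mul, ha, hb, Commute.mul_pow (hA a b)]
      inv_mem' := fun {a} ha => by rw [Set.mem_ofPred_eq, map_inv, ha, inv_pow] }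
  obtain ⟨a, ha⟩ := not_forall.1 (hsc q hq.1).2
  have b1 : q a * a ^ 2 ≠ 1 := fun e => ha (by
    rw [eq_inv_of_mul_eq_one_left e, inv_eq_iff_mul_eq_one, ← pow_add, h5])
  have b2 : q a * a ^ 2 ∈ L := by
    change q _ = _
    rw [map_mul, q2, map_pow, Commute.mul_pow (hA _ _), hA, ← pow_mul,
      inv_eq_iff_mul_eq_one.2 (show a * a ^ (2 * 2) = 1 by rw [← pow_succ', h5])]
  generalize q a * a ^ 2 = b at b1 b2
  have : Fact (Nat.Prime 5) := ⟨Nat.prime_five⟩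
  have b3 := orderOf_eq_prime (h5 b) b1
  have b4 := (zpowers b).card_mul_index
  rw [Nat.card_zpowers, b3, hc] at b4
  have b5 := ((covBy_of_relIndex_prime (H := ⊤) le_top (by
    rw [relIndex_top_right, show (zpowers b).index = 5 by omega]; exact Nat.prime_five)).eq_or_eq
    (zpowers_le.2 b2) le_top).resolve_right fun e => (hsc q hq.1).1 fun a => e.ge (mem_top a)
  obtain ⟨i, hi⟩ := (mem_powers_iff_mem_zpowers.2 (b5.le (show g b ∈ L by
    change q _ = _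
    rw [← MulAut.mul_apply, mem_cent1.1 hq.2, MulAut.mul_apply, b2, map_pow])))
  have b6 : b ^ (i * i * i) = b ^ 1 := by
    have : g (g (g b)) = b := DFunLike.congr_fun g3 b
    simp only at hi
    rw [← hi, map_pow, map_pow, ← hi, map_pow, ← hi, ← pow_mul, ← pow_mul, ← mul_assoc] at this
    rw [this, pow_one]
  rw [pow_eq_pow_iff_modEq, b3] at b6
  have b7 : i ≡ 1 [MOD 5] := by
    unfold Nat.ModEq at b6 ⊢
    obtain h | h | h | h | h : i % 5 = 0 ∨ i % 5 = 1 ∨ i % 5 = 2 ∨ i % 5 = 3 ∨ i % 5 = 4 := by omega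
    all_goals simp [Nat.mul_mod, h] at b6 ⊢
  exact g1 (hs g hg b (by rw [← hi]; exact (pow_eq_pow_of_modEq b7 (h5 b)).trans (pow_one b)) b1)

end

variable {G : Type u} [Group G] [Finite G] {A K : Subgroup G}

/-- `K / C_K(A)` acts semiregularly on `A` -/
def SR (K A : Subgroup G) : Prop := ∀ a ∈ A, a ≠ 1 → K ⊓ 𝐂[a] ≤ 𝐂(A)

omit [Finite G] in
theorem SR.range (h : SR K A) (hn : K ≤ 𝐍(A)) :
    ∀ σ ∈ (conjHom hn).range, ∀ a, σ a = a → a ≠ 1 → σ = 1 := by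
  rintro _ ⟨k, rfl⟩ a e a1
  exact (mem_ker_conjHom hn k).2 (h a a.2 (fun e => a1 (Subtype.ext e))
    ⟨k.2, mem_cent1_iff_conj.2 (congrArg Subtype.val e)⟩)

omit [Finite G] in
theorem card_range (hn : K ≤ 𝐍(A)) : ♯(conjHom hn).range = 𝐂(A).relIndex K := by
  rw [← index_ker]; congr 1; ext k; exact mem_ker_conjHom hn k

theorem SR.relIndex (h : SR K A) (hn : K ≤ 𝐍(A)) {a : G} (ha : a ∈ A) (a1 : a ≠ 1)
    (ht : ∀ b ∈ A, b ≠ 1 → ∃ k ∈ K, b = k * a * k⁻¹) : 𝐂(A).relIndex K = ♯A - 1 := by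
  rw [← ncard_sharp, ← inf_relIndex_left, le_antisymm (inf_le_inf_left K (cent_le_cent1 ha))
    (le_inf inf_le_left (h a ha a1)), inf_relIndex_left, relIndex_centralizer_eq_ncard]
  congr 1
  ext b
  exact ⟨by rintro ⟨k, hk, rfl⟩; exact conj_mem_sharp (hn hk) ⟨ha, a1⟩, fun hb => ht b hb.1 hb.2⟩

theorem SR.neg (h : SR K A) (hn : K ≤ 𝐍(A)) (hA : Ab A) (h16 : 16 ∣ 𝐂(A).relIndex K) :
    ∃ k ∈ K, ∀ a ∈ A, k ^ 4 * a * (k ^ 4)⁻¹ = a⁻¹ := by
  obtain ⟨_, ⟨k, rfl⟩, e⟩ := exists_neg (fun a b => Subtype.ext (ab_iff.1 hA _ a.2 _ b.2)) (h.range hn)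
    (j := 2) (Or.inl (card_range hn ▸ h16))
  exact ⟨k, k.2, fun a ha => congrArg Subtype.val (map_pow (conjHom hn) k _ ▸ e ⟨a, ha⟩ :)⟩

theorem SR.plane (h : SR K A) {β : G → G → ZMod 5} {ε : ZMod 5} (hβ : AF K A β ε)
    (hA : IsElementaryAbelian 5 A) (hc : ♯A = 25) (h24 : 𝐂(A).relIndex K = 24) {g k : G} (hg : g ∈ K)
    (hk : k ∈ K) (ho : orderOf g = 3) (hg' : g ∉ 𝐂(A)) (e : k * g * k⁻¹ = g⁻¹) : False := by
  have : Fact (Nat.Prime 3) := ⟨Nat.prime_three⟩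
  have sc : ∀ i : ℕ, IsUnit ((i : ZMod 5) * i - 1) → ∀ σ ∈ (conjHom hβ.norm).range,
      ¬ ∀ a, σ a = a ^ i := by
    rintro i hi _ ⟨k, rfl⟩ e
    refine ne_bot_of_prime_dvd Nat.prime_five (hc ▸ by norm_num : 5 ∣ ♯A)
      (eq_bot_iff.2 fun x hx => hβ.nd x hx fun y hy => ?_)
    have := hβ.inv k k.2 x hx y hy
    rw [show k * x * (k : G)⁻¹ = x ^ i from congrArg Subtype.val (e ⟨x, hx⟩),
      show k * y * (k : G)⁻¹ = y ^ i from congrArg Subtype.val (e ⟨y, hy⟩),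
      hβ.pow_left hx (pow_mem hy i), hβ.pow_right hx hy] at this
    exact hi.mul_right_eq_zero.1 (by linear_combination this)
  refine AD.plane (fun a b => Subtype.ext (ab_iff.1 hA.1 _ a.2 _ b.2)) (h.range hβ.norm) hc
    (fun a => Subtype.ext (hA.2 a a.2)) (card_range hβ.norm ▸ h24)
    (fun σ hσ => ⟨sc 2 (by decide) σ hσ, sc 3 (by decide) σ hσ⟩) ⟨⟨g, hg⟩, rfl⟩ ⟨⟨k, hk⟩, rfl⟩
    (orderOf_eq_prime ?_ fun e => hg' ((mem_ker_conjHom _ _).1 e)) ?_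
  · rw [← map_pow, show (⟨g, hg⟩ : K) ^ 3 = 1 from Subtype.ext (ho ▸ pow_orderOf_eq_one g), map_one]
  · rw [← map_inv, ← map_mul, ← map_mul, ← map_inv]; exact congrArg _ (Subtype.ext e)

end Cfsg.Agent.AD
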