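import Cfsg.Agent.Lib.AD.Plane
import Cfsg.Agent.Lib.Cls.Basic

/-!
# The primes dividing centralizer orders
-/

set_option autoImplicit false

namespace Cfsg.Agent.AD

open Subgroup Cfsg.Agent.OO Cfsg.Agent.Coprime
open scoped commutatorElement Pointwise

universe u

/-- distinct classes have distinct sizes -/
def Dis (G : Type u) [Group G] : Prop := ∀ x y : G, ♯𝐂[x] = ♯𝐂[y] → ∃ g, y = g * x * g⁻¹

theorem exists_alt {p : ℕ} [hp : Fact p.Prime] (h5 : 5 ≤ p) {G : Type u} [Group G] [Finite G]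
    (hr : Rat (⊤ : Subgroup G)) {P : Subgroup G} (nP : P.Normal) (hP : IsPGroup p P) (P0 : P ≠ ⊥) :
    ∃ (V : Subgroup G) (β : G → G → ZMod p) (ε : ZMod p), V.Normal ∧ V ≠ ⊥ ∧ V ≤ Zc P ∧
      IsElementaryAbelian p V ∧ AF ⊤ V β ε ∧ ∀ x ∈ V, β x x = 0 := by
  obtain ⟨V, hm, hVP⟩ := exists_minNormalBy (M := ⊤) (Zc_ne_bot (nil_of_isPGroup hP) P0)
    (le_norm_Zc (normalIn_top.2 nP).norm)
  have hV := hm.abelem_of_isPGroup (hP.to_le (hVP.trans (Zc_le P)))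
  obtain ⟨β, ε, hβ⟩ := exists_af hV hm hr.real
  exact ⟨V, β, ε, normalizer_eq_top_iff.1 (top_le_iff.1 hm.norm), hm.ne_bot, hVP, hV, hβ, fun x hx =>
    hβ.alt h5 hx (hr x trivial 2 (cop_of_pow hp.out (hV.2 x hx) two_ne_zero (by omega)))⟩

theorem exists_cent {p : ℕ} [hp : Fact p.Prime] (h5 : 5 ≤ p) : ∀ (G : Type u) [Group G] [Finite G],
    Rat (⊤ : Subgroup G) → ∀ P : Subgroup G, P.Normal → IsPGroup p P → ∀ w : G,
    (orderOf w).Coprime p → P ⊓ 𝐂[w] ≠ ⊥ → ∃ (A : Subgroup G) (β : G → G → ZMod p) (ε : ZMod p),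
      A ≠ ⊥ ∧ A ≤ Zc (P ⊓ 𝐂[w]) ∧ IsElementaryAbelian p A ∧ AF 𝐂[w] A β ε ∧ ∀ x ∈ A, β x x = 0 := by
  refine Core.induction_on_card fun G _ _ ih hr P nP hP w hw h0 => ?_
  obtain ⟨V, β, ε, nV, V0, hVP, hV, hβ, ha⟩ := exists_alt h5 hr nP hP (ne_bot_of_le_ne_bot h0 inf_le_left)
  have cop : ∀ X ≤ P, (♯(zpowers w)).Coprime ♯X := fun X hX => by
    obtain ⟨n, e⟩ := (hP.to_le hX).exists_card_eq
    rw [Nat.card_zpowers, e]; exact hw.pow_right n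
  by_cases h1 : V ⊓ 𝐂[w] = ⊥
  · let f := QuotientGroup.mk' V
    have h2 := map_inf_centralizer_eq f (A := zpowers w) (G := P) (le_top.trans (normalIn_top.2 nP).norm)
      (cop _ inf_le_left) (Or.inl inferInstance)
    rw [MonoidHom.map_zpowers, cent_zpowers, cent_zpowers] at h2
    have inj : ∀ x ∈ P ⊓ 𝐂[w], f x = 1 → x = 1 := fun x hx e =>
      mem_bot.1 (h1.le ⟨(QuotientGroup.eq_one_iff x).1 e, hx.2⟩)
    obtain ⟨A, γ, δ, A0, hA, hA', hγ, hg⟩ := ih (G ⧸ V) (card_quot_lt V0) (map_top V ▸ hr.map _) (P.map f)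
      (nP.map f (QuotientGroup.mk'_surjective V)) (hP.map f) (f w)
      (hw.coprime_dvd_left (orderOf_map_dvd f w)) (h2 ▸ fun e => h0 (eq_bot_iff.2 fun x hx =>
        inj x hx (mem_bot.1 (e.le ⟨x, hx, rfl⟩))))
    rw [← h2] at hA
    have h3 : (P ⊓ 𝐂[w] ⊓ A.comap f).map f = A := le_antisymm (map_le_iff_le_comap.2 inf_le_right)
      fun a ha => by obtain ⟨x, hx, rfl⟩ := (hA ha).1; exact ⟨x, ⟨hx, ha⟩, rfl⟩
    have h4 : P ⊓ 𝐂[w] ⊓ A.comap f ≤ Zc (P ⊓ 𝐂[w]) := fun x hx => mem_Zc.2 ⟨hx.1, fun y hy =>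
      mul_inv_eq_one.1 (inj _ (mul_mem (mul_mem hy hx.1) (inv_mem (mul_mem hx.1 hy))) (by
        rw [map_mul, map_inv, map_mul, map_mul, (mem_Zc.1 (hA hx.2)).2 _ ⟨y, hy, rfl⟩, mul_inv_cancel]))⟩
    refine ⟨_, _, δ, fun e => A0 (by rw [← h3, e, Subgroup.map_bot]), h4, ⟨ab_of_le_Zc h4, fun x hx =>
      inj _ (pow_mem hx.1 p) (by rw [map_pow, hA'.2 _ hx.2])⟩, hγ.comap f h3
      (eq_bot_iff.2 fun x hx => inj x hx.1.1 hx.2) (le_norm_inf (le_norm_inf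
        (le_top.trans (normalIn_top.2 nP).norm) (le_norm_self _)) (le_norm_iff.2 fun k hk x hx => ?_))
      (Cls.map_centralizer_single_le f w), fun x hx => hg _ hx.2⟩
    rw [mem_comap, map_mul, map_mul, map_inv]
    exact conj_mem_of_norm (hγ.norm (Cls.map_centralizer_single_le f w ⟨k, hk, rfl⟩)) hx
  · exact ⟨_, β, ε, h1, le_inf (inf_le_inf_right _ (hVP.trans (Zc_le P))) (inf_le_left.trans
      (hVP.trans ((Zc_le_cent P).trans (cent_anti inf_le_left)))), abelem_of_le hV inf_le_left,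
      cent_zpowers w ▸ hβ.res hV.1 le_top (cop V (hVP.trans (Zc_le P))) le_top (cent_le_norm _),
      fun x hx => ha x hx.1⟩

variable {G : Type u} [Group G] [Finite G]

theorem Dis.rat (h : Dis G) : Rat (⊤ : Subgroup G) := fun x _ j hj =>
  let ⟨g, e⟩ := h x (x ^ j) (by
    rw [le_antisymm (cent1_le_of_mem_zpowers (npow_mem_zpowers x j))
      (cent1_le_of_mem_zpowers (mem_zpowers_pow_iff.2 hj))])
  ⟨g, trivial, e.symm⟩

theorem setup (hs : Group.IsSolvable G) (h : Dis G) {p : ℕ} [hp : Fact p.Prime] (h5 : 5 ≤ p)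
    (hd : p ∣ Nat.card G) : ∃ (V D : Subgroup G) (v : G) (β : G → G → ZMod p) (ε : ZMod p),
    V.Normal ∧ IsElementaryAbelian p V ∧ ¬ p ∣ ♯D ∧ D ≤ 𝐂[v] ∧ v ^ p = 1 ∧ 𝐂(V ⊓ 𝐂(D)) = 𝐂[v] ∧
    AF 𝐍(D) (V ⊓ 𝐂(D)) β ε ∧ SR 𝐍(D) (V ⊓ 𝐂(D)) ∧ ♯(V ⊓ 𝐂(D)) = p ^ 2 ∧
    𝐂[v].relIndex 𝐍(D) = p ^ 2 - 1 ∧ Sm (p ^ 2 - 1) ∧ p ^ 2 - 1 ∣ 𝐂[v].index := by
  obtain ⟨P, hP⟩ := exists_syl p (⊤ : Subgroup G)
  have nP := normal_syl h5 G hs h.rat P hP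
  obtain ⟨V, β, ε, nV, V0, hVP, hV, hβ, ha⟩ := exists_alt h5 h.rat nP hP.isPGroup
    (hP.ne_bot (card_top (G := G) ▸ hd))
  obtain ⟨_, ⟨v, hv, v1, rfl⟩, hm⟩ := (wellFounded_gt (α := Subgroup G)).has_min
    {C | ∃ v ∈ V, v ≠ 1 ∧ C = 𝐂[v]} (let ⟨v, h1, h2⟩ := exists_mem_ne_one V0; ⟨_, v, h1, h2, rfl⟩)
  have h1 : ∀ w ∈ V, P ≤ 𝐂[w] := fun w hw => le_cent1_iff.2 (Zc_le_cent P (hVP hw))
  obtain ⟨D, hD⟩ := exists_hall ({p} : Set ℕ)ᶜ (M := 𝐂[v]) inferInstance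
  have h2 : ∀ w ∈ V ⊓ 𝐂(D), 𝐂[v] ≤ 𝐂[w] := fun w hw =>
    ((hP.hall.mono (h1 v hv) le_top).sup_compl hD).ge.trans (sup_le (h1 w hw.1) (le_cent1_iff.2 hw.2))
  have h3 : ∀ w ∈ V ⊓ 𝐂(D), w ≠ 1 → 𝐂[v] = 𝐂[w] := fun w hw w1 =>
    (h2 w hw).eq_or_lt.resolve_right (hm _ ⟨w, hw.1, w1, rfl⟩)
  have hvW : v ∈ V ⊓ 𝐂(D) := ⟨hv, le_cent1_iff.1 hD.le⟩
  have h4 : 𝐂(V ⊓ 𝐂(D)) = 𝐂[v] := le_antisymm (cent_le_cent1 hvW)
    (le_cent_symm fun w hw => le_cent1_iff.1 (h2 w hw))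
  have hγ := hβ.res hV.1 le_top (coprime_of_isPGroup (abelem_isPGroup hV) hD.piGrp).symm le_top le_rfl
  have sr : SR 𝐍(D) (V ⊓ 𝐂(D)) := fun w hw w1 => inf_le_right.trans (h4.trans (h3 w hw w1)).ge
  have fr := (hD.frattini inferInstance (normalIn_norm _)).symm
  rw [inf_eq_right.2 (h4 ▸ le_norm_cent hγ.norm : 𝐍(D) ≤ 𝐍(𝐂[v]))] at fr
  have h6 := sr.relIndex hγ.norm hvW v1 fun b hb b1 => by
    obtain ⟨g, e⟩ := h v b (by rw [h3 b hb b1])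
    obtain ⟨n, hn, c, hc, rfl⟩ := fr.mem_iff.1 (conj_eq_self_iff.1
      (by rw [← cent1_conj, ← e, h3 b hb b1] : g •ᶜ 𝐂[v] = 𝐂[v]))
    exact ⟨n, hn, by rw [e]; nth_rw 2 [← mem_cent1_iff_conj.1 hc]; group⟩
  obtain ⟨d, d2, e⟩ := hγ.sq_dvd (abelem_of_le hV inf_le_left) (fun x hx => ha x hx.1)
    fun e => v1 (mem_bot.1 (e.le hvW))
  rw [h4, e] at h6
  have h7 : p ^ d - 1 ∣ 𝐂[v].index := by
    rw [← h6, ← fr.relIndex_eq]; exact relIndex_dvd_index_of_le (le_norm_self _)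
  have h8 : Sm 𝐂[v].index := fun q hq e => by
    by_contra! e'
    have q5 : 5 ≤ q := hq.five_le_of_ne_two_of_ne_three e'.1 e'.2
    have := Fact.mk hq
    obtain ⟨Q, hQ⟩ := exists_syl q (⊤ : Subgroup G)
    have nQ := normal_syl q5 G hs h.rat Q hQ
    refine hQ.not_dvd (relIndex_top_right Q ▸ e.trans (index_dvd_of_le ?_))
    by_cases e : q = p
    · subst e
      exact (hP.le_of_normal (normalIn_top.2 nQ) hQ.isPGroup).trans (h1 v hv)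
    · exact (le_cent_of_coprime (le_top.trans (normalIn_top.2 nP).norm)
        (le_top.trans (normalIn_top.2 nQ).norm) (coprime_of_isPGroup_ne hQ.isPGroup hP.isPGroup e)).trans
        (cent_le_cent1 (Zc_le P (hVP hv)))
  obtain rfl := num_two (hp.out.eq_two_or_odd.resolve_left (by omega)) (fun e => by
    have := (Nat.prime_dvd_prime_iff_eq Nat.prime_three hp.out).1 (Nat.dvd_of_mod_eq_zero e)
    omega) hp.out.one_lt d d2 (h8.of_dvd h7)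
  exact ⟨V, D, v, β, ε, nV, hV, (piGrp_compl_singleton hp.out).1 hD.piGrp, hD.le, hV.2 v hv, h4, hγ, sr,
    e, h6, h8.of_dvd h7, h7⟩

theorem primes (hs : Group.IsSolvable G) (h : Dis G) {p : ℕ} (hp : p.Prime) (hd : p ∣ Nat.card G) :
    p = 2 ∨ p = 3 ∨ p = 5 := by
  by_contra! e
  have := Fact.mk hp
  have h5 := hp.five_le_of_ne_two_of_ne_three e.1 e.2.1
  have h2 := hp.eq_two_or_odd.resolve_left e.1
  obtain ⟨V, D, v, β, ε, nV, hV, hD, -, -, h4, hγ, sr, e1, h6, h8, -⟩ := setup hs h h5 hd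
  obtain ⟨k, hk, e2⟩ := sr.neg hγ.norm (ab_of_le hV.1 inf_le_left)
    (by rw [h4, h6]; exact num_sixteen h2 (by omega) h8)
  exact trace_false e.1 h.rat hV hD e1 hk e2

theorem inv_of_three {g k : G} (ho : orderOf g = 3) (e : k * g * k⁻¹ = g ^ 2) : k * g * k⁻¹ = g⁻¹ :=
  e.trans (eq_inv_of_mul_eq_one_left (by
    rw [← pow_succ, show 2 + 1 = orderOf g from ho.symm, pow_orderOf_eq_one]))

theorem sixteen (hs : Group.IsSolvable G) (h : Dis G) (hd : 5 ∣ Nat.card G) : 16 ∣ Nat.card G := by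
  have : Fact (Nat.Prime 5) := ⟨Nat.prime_five⟩
  obtain ⟨V, D, v, β, ε, nV, hV, hD, hDv, v5, h4, hγ, sr, e1, h6, -, h7⟩ := setup hs h le_rfl hd
  rw [← 𝐂[v].card_mul_index]
  by_cases h2 : 2 ∣ ♯𝐂[v]
  · exact mul_dvd_mul h2 ((by norm_num : 8 ∣ 5 ^ 2 - 1).trans h7)
  have h3 : ¬ 3 ∣ ♯𝐂[v] := fun e => by
    obtain ⟨y, hy, yo⟩ := cauchy Nat.prime_three e
    obtain ⟨k, -, k1, k2⟩ := h.rat.pair trivial trivial (mem_cent1.1 hy).symm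
      (yo ▸ (by norm_num : Nat.Coprime 5 3).coprime_dvd_left (orderOf_dvd_of_pow_eq_one v5))
      (j := 2) (by rw [yo]; norm_num)
    have a1 : ∀ n, k ^ n * y * (k ^ n)⁻¹ = y ^ 2 ^ n := fun n => by
      induction n with
      | zero => simp
      | succ n ih => rw [show k ^ (n + 1) * y * (k ^ (n + 1))⁻¹ = k * (k ^ n * y * (k ^ n)⁻¹) * k⁻¹ by
          group, ih, ← conj_pow, k2, ← pow_mul, ← pow_succ']
    have a2 := a1 (orderOf k)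
    obtain ⟨m, hm⟩ : Odd (orderOf k) := Nat.not_even_iff_odd.1 fun e => h2
      (e.two_dvd.trans (orderOf_dvd_card (mem_cent1_iff_conj.2 k1)))
    rw [pow_orderOf_eq_one, one_mul, inv_one, mul_one, hm, eq_comm] at a2
    nth_rw 2 [← pow_one y] at a2
    rw [pow_eq_pow_iff_modEq, yo] at a2
    simp [Nat.ModEq, pow_succ, pow_mul, Nat.mul_mod, Nat.pow_mod] at a2
  obtain rfl : D = ⊥ := card_eq_one_iff.1 (Nat.eq_one_iff_not_exists_prime_dvd.2 fun q hq e => by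
    rcases primes hs h hq (e.trans (card_subgroup_dvd_card D)) with rfl | rfl | rfl
    exacts [h2 (e.trans (card_dvd hDv)), h3 (e.trans (card_dvd hDv)), hD e])
  obtain ⟨g, -, go⟩ := cauchy (H := (⊤ : Subgroup G)) Nat.prime_three (card_top (G := G) ▸
    ((by norm_num : 3 ∣ 5 ^ 2 - 1).trans h7).trans (index_dvd_card _))
  obtain ⟨k, -, e⟩ := h.rat.real g trivial
  exact (sr.plane hγ (abelem_of_le hV inf_le_left) e1 (h4 ▸ h6) ((NormalIn.bot ⊤).norm trivial)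
    ((NormalIn.bot ⊤).norm trivial) go
    (fun e => h3 (go ▸ orderOf_dvd_card (h4.le e))) e).elim

theorem five (hs : Group.IsSolvable G) (h : Dis G) (x : G) (hd : 5 ∣ ♯𝐂[x]) :
    25 ∣ ♯𝐂[x] ∧ (¬ 125 ∣ ♯𝐂[x] → 3 ∣ ♯𝐂[x]) := by
  have : Fact (Nat.Prime 5) := ⟨Nat.prime_five⟩
  obtain ⟨P, hP⟩ := exists_syl 5 (⊤ : Subgroup G)
  have nP := normalIn_top.2 (normal_syl le_rfl G hs h.rat P hP)
  obtain ⟨u, hu, v, hv, e, ⟨n, uo⟩, vo⟩ := Cls.exists_p_part Nat.prime_five x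
  have uv := Cls.commute_of_mem_zpowers hu hv
  have hx : 𝐂[x] = 𝐂[u] ⊓ 𝐂[v] := e ▸ Cls.centralizer_single_mul uv (uo ▸ vo.symm.pow_left n)
  have hS := hP.inf_of_normal_syl nP.norm (le_top : 𝐂[x] ≤ ⊤)
  obtain ⟨A, β, ε, A0, hA, hA', hβ, ha⟩ := exists_cent le_rfl G h.rat P (normalIn_top.1 nP) hP.isPGroup
    v vo (ne_bot_of_le_ne_bot (hS.ne_bot hd) (inf_le_inf_left _ (hx.le.trans inf_le_right)))
  have uQ : u ∈ P ⊓ 𝐂[v] := ⟨hP.mem_of_mem_norm trivial (nP.norm trivial)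
    (show IsPiNum _ _ from uo ▸ isPiNum_singleton_pow Nat.prime_five n), mem_cent1.2 uv⟩
  have hAQ := hA.trans (Zc_le _)
  have h1 : A ≤ P ⊓ 𝐂[x] := le_inf (hAQ.trans inf_le_left) (hx ▸ le_inf
    (hA.trans ((Zc_le_cent _).trans (cent_le_cent1 uQ))) (hAQ.trans inf_le_right))
  obtain ⟨d, d2, e1⟩ := hβ.sq_dvd hA' ha A0
  have le25 : ∀ X ≤ 𝐂[x], IsPGroup 5 X → ¬ 125 ∣ ♯𝐂[x] → ♯X ≤ 5 ^ 2 := fun X hX h1 h2 => by
    obtain ⟨m, e⟩ := h1.exists_card_eq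
    exact e ▸ Nat.pow_le_pow_right (by norm_num) (not_lt.1 fun h3 =>
      h2 ((pow_dvd_pow 5 h3).trans (e ▸ card_dvd hX)))
  have ge25 : ∀ {d}, 2 ≤ d → 5 ^ 2 ≤ 5 ^ d := Nat.pow_le_pow_right (by norm_num)
  refine ⟨(pow_dvd_pow 5 d2).trans (e1 ▸ card_dvd (h1.trans inf_le_right)), fun h125 => ?_⟩
  have h2 := eq_of_le_of_card_le h1 ((le25 _ inf_le_right hS.isPGroup h125).trans (e1 ▸ ge25 d2))
  have c25 : ♯A = 25 := le_antisymm (h2 ▸ le25 _ inf_le_right hS.isPGroup h125) (e1 ▸ ge25 d2)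
  have uA : u ∈ A := h2.ge ⟨uQ.1, hx.ge ⟨mem_cent1_self u, uQ.2⟩⟩
  have h3 : P ⊓ 𝐂[v] ≤ A := (le_inf inf_le_left (hx ▸ le_inf (le_cent1_iff.2 (Zc_le_cent _ (hA uA)))
    inf_le_right)).trans h2.ge
  have sr : SR 𝐂[v] A := fun a haA a1 k hk => by
    refine mem_of_constt_mem (π := {5}) (abelem_le_cent hA' (h3 ⟨hP.mem_of_mem_norm trivial
      (nP.norm trivial) (piElt_constt _ _), constt_mem _ hk.1⟩)) ?_
    have b1 := constt_mem ({5} : Set ℕ)ᶜ hk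
    obtain ⟨d, d2, e⟩ := (hβ.res hA'.1 (zpowers_le.2 b1.1) (coprime_of_isPGroup (abelem_isPGroup hA')
      (piGrp_zpowers.2 (piElt_constt _ k))).symm bot_le bot_le).sq_dvd (abelem_of_le hA' inf_le_left)
      (fun x hx => ha x hx.1) fun e => a1 (mem_bot.1 (e.le ⟨haA, (cent_zpowers _).ge (mem_cent1_comm.1 b1.2)⟩))
    exact le_cent1_iff.1 ((inf_eq_left.1
      (eq_of_le_of_card_le inf_le_left (c25 ▸ e ▸ ge25 d2))).trans (cent_zpowers _).le)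
  have h4 : ∀ a ∈ A, a ≠ 1 → 𝐂[v] ⊓ 𝐂[a] = 𝐂[v] ⊓ 𝐂(A) := fun a ha a1 =>
    le_antisymm (le_inf inf_le_left (sr a ha a1)) (inf_le_inf_left _ (cent_le_cent1 ha))
  have c1 : ∀ a ∈ A, Commute v a := fun a ha => (mem_cent1.1 (hAQ ha).2).symm
  have h5 : ∀ a ∈ A, a ≠ 1 → 𝐂[v * a] = 𝐂[v] ⊓ 𝐂(A) := fun a ha a1 => by
    rw [Cls.centralizer_single_mul (c1 a ha)
      (vo.coprime_dvd_right (orderOf_dvd_of_pow_eq_one (hA'.2 a ha))), h4 a ha a1]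
  obtain ⟨a, haA, a1⟩ := exists_mem_ne_one A0
  have h6 := sr.relIndex hβ.norm haA a1 fun b hb b1 => by
    obtain ⟨g, e⟩ := h (v * a) (v * b) (by rw [h5 a haA a1, h5 b hb b1])
    obtain ⟨e1, e2⟩ := parts vo (c1 b hb) ((c1 a haA).map (MulAut.conj g)) (pow_orderOf_eq_one v)
      (by rw [← map_pow, pow_orderOf_eq_one, map_one]) (hA'.2 b hb)
      (by rw [← map_pow, hA'.2 a haA, map_one]) (by rw [e, ← map_mul]; rfl)
    exact ⟨g, mem_cent1_iff_conj.2 e1.symm, e2⟩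
  rw [c25] at h6
  have h7 : 3 ∣ ♯𝐂[v] := card_inf_mul_relIndex 𝐂(A) 𝐂[v] ▸ h6 ▸ Dvd.dvd.mul_left (by norm_num) _
  by_cases u1 : u = 1
  · rwa [e, u1, one_mul]
  rw [hx, inf_comm, h4 u uA u1]
  by_contra h8
  obtain ⟨g, hg, go⟩ := cauchy Nat.prime_three h7
  obtain ⟨k, -, k1, k2⟩ := h.rat.pair trivial trivial (mem_cent1.1 hg).symm
    (go ▸ ((Nat.Prime.coprime_iff_not_dvd Nat.prime_three).2 fun e => h8 (e.trans (orderOf_dvd_card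
      ⟨mem_cent1_self v, le_cent1_iff.1 (hAQ.trans inf_le_right)⟩))).symm) (j := 2) (by rw [go]; norm_num)
  exact sr.plane hβ hA' c25 h6 hg (mem_cent1_iff_conj.2 k1) go
    (fun e => h8 (go ▸ orderOf_dvd_card ⟨hg, e⟩)) (inv_of_three go k2)

end Cfsg.Agent.AD
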