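import Cfsg.Agent.Lib.AD.Primes
import Cfsg.Agent.Lib.PGrp.MaxClass

/-!
# Solvable groups with distinct class sizes
-/

set_option autoImplicit false

namespace Cfsg.Agent.AD

open Subgroup Cfsg.Agent.OO Cfsg.Agent.Coprime
open scoped commutatorElement Pointwise

universe u

/-- finite sums of reciprocals of members of `P` are at most `B` -/
def Bd (P : Set ℕ) (B : ℚ) : Prop := ∀ S : Finset ℕ, ↑S ⊆ P → ∑ n ∈ S, (n : ℚ)⁻¹ ≤ B

namespace Bd

variable {P Q : Set ℕ} {B C : ℚ}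

theorem fin (T : Finset ℕ) : Bd T (∑ n ∈ T, (n : ℚ)⁻¹) := fun _ h =>
  Finset.sum_le_sum_of_subset_of_nonneg (Finset.coe_subset.1 h) fun _ _ _ => by positivity

theorem one (a : ℕ) : Bd {a} (a : ℚ)⁻¹ := by simpa using fin {a}

theorem union (h : Bd P B) (h' : Bd Q C) : Bd (P ∪ Q) (B + C) := fun S hS => by
  classical
  rw [← Finset.sum_filter_add_sum_filter_not S (· ∈ P)]
  exact add_le_add (h _ fun n hn => (Finset.mem_filter.1 hn).2) (h' _ fun n hn =>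
    (hS (Finset.mem_filter.1 hn).1).resolve_left (Finset.mem_filter.1 hn).2)

theorem diff (h : Bd P B) (T : Finset ℕ) (hT : ↑T ⊆ P) : Bd (P \ T) (B - ∑ n ∈ T, (n : ℚ)⁻¹) :=
  fun S hS => by
    rw [le_sub_iff_add_le, ← Finset.sum_union (Finset.disjoint_left.2 fun n hn => (hS hn).2)]
    exact h _ (by rw [Finset.coe_union]; exact Set.union_subset (fun n hn => (hS hn).1) hT)

theorem mul (h : Bd P B) (h' : Bd Q C) : Bd (P * Q) (B * C) := fun S hS => by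
  choose! a ha b hb e using fun n (hn : n ∈ S) => Set.mem_mul.1 (hS hn)
  have h1 := h (S.image a) (by simpa [Set.subset_def] using ha)
  have h2 := h' (S.image b) (by simpa [Set.subset_def] using hb)
  refine le_trans ?_ (mul_le_mul h1 h2 (by positivity) ((by positivity : (0 : ℚ) ≤ _).trans h1))
  rw [Finset.sum_mul_sum, ← Finset.sum_product', Finset.sum_congr rfl fun (n : ℕ) hn =>
    show (n : ℚ)⁻¹ = (fun p : ℕ × ℕ => (p.1 : ℚ)⁻¹ * (p.2 : ℚ)⁻¹) (a n, b n) by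
      simp only [← mul_inv, ← Nat.cast_mul, e n hn],
    ← Finset.sum_image (f := fun p : ℕ × ℕ => (p.1 : ℚ)⁻¹ * (p.2 : ℚ)⁻¹) (g := fun n => (a n, b n))
      fun m hm n hn e' => by
        rw [← e m hm, ← e n hn, show a m = a n from (Prod.ext_iff.1 e').1,
          show b m = b n from (Prod.ext_iff.1 e').2]]
  exact Finset.sum_le_sum_of_subset_of_nonneg (fun p hp => by
    obtain ⟨n, hn, rfl⟩ := Finset.mem_image.1 hp
    exact Finset.mem_product.2 ⟨Finset.mem_image_of_mem _ hn, Finset.mem_image_of_mem _ hn⟩)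
    fun _ _ _ => by positivity

theorem pow {p : ℕ} (hp : 1 < p) : Bd (Set.range (p ^ ·)) (1 - (p : ℚ)⁻¹)⁻¹ := fun S hS => by
  obtain ⟨T, rfl⟩ := Finset.subset_set_image_iff.1 (Set.image_univ ▸ hS) |>.imp fun _ h => h.2
  obtain ⟨N, hN⟩ := T.exists_nat_subset_range
  rw [Finset.sum_image fun _ _ _ _ e => Nat.pow_right_injective hp e]
  refine (Finset.sum_le_sum_of_subset_of_nonneg hN fun _ _ _ => by positivity).trans ?_
  have := geom_sum_Ico_le_of_lt_one (m := 0) (n := N) (x := (p : ℚ)⁻¹) (by positivity)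
    (inv_lt_one_of_one_lt₀ (by exact_mod_cast hp))
  simpa using this

end Bd

variable {G : Type u} [Group G] [Finite G]

theorem one_le (h : Dis G) {P : Set ℕ} {B : ℚ} (hB : Bd P B) (hP : ∀ x : G, ♯𝐂[x] ∈ P) : 1 ≤ B := by
  classical
  have := Fintype.ofFinite G
  have := Fintype.ofFinite (ConjClasses G)
  choose r e0 using (ConjClasses.mk_surjective (α := G))
  refine le_trans (le_of_eq ?_) (hB (Finset.univ.image fun C => ♯𝐂[r C])
    (by simpa [Set.subset_def] using fun C => hP _))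
  rw [Finset.sum_image fun C _ D _ e => by
    obtain ⟨g, e⟩ := h _ _ e
    rw [← e0 C, ← e0 D, ConjClasses.mk_eq_mk_iff_isConj, isConj_iff]
    exact ⟨g, e.symm⟩]
  have h0 : (Nat.card G : ℚ) ≠ 0 := Nat.cast_ne_zero.2 Nat.card_pos.ne'
  refine mul_left_cancel₀ h0 ?_
  rw [mul_one, Finset.mul_sum]
  nth_rw 1 [Nat.card_eq_fintype_card, ← sum_conjClasses_card_eq_card, Nat.cast_sum]
  refine Finset.sum_congr rfl fun C _ => ?_
  rw [← 𝐂[r C].card_mul_index, ← Cls.card_carrier_mk, e0, Set.toFinset_card,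
    Nat.card_eq_fintype_card (α := C.carrier), Nat.cast_mul,
    mul_right_comm, mul_inv_cancel₀ (Nat.cast_ne_zero.2 (card_pos' _).ne'), one_mul]

theorem card_le_six (h : Dis G) {P : Set ℕ} {B : ℚ} (hB : Bd P B) (hP : ∀ x : G, x ≠ 1 → ♯𝐂[x] ∈ P)
    (h6 : B < 6 / 7) : Nat.card G ≤ 6 := by
  have h1 := one_le h (hB.union (Bd.one (Nat.card G))) fun x => by
    by_cases e : x = 1
    · exact Or.inr (by rw [e, Cls.centralizer_single_eq_top_iff.2 (one_mem _), card_top]; rfl)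
    · exact Or.inl (hP x e)
  by_contra! e
  have : (Nat.card G : ℚ)⁻¹ ≤ 7⁻¹ := inv_anti₀ (by norm_num) (by exact_mod_cast e)
  linarith

theorem prime_cent {p : ℕ} (hp : p.Prime) {x y : G} (h : ♯𝐂[x] = p) [Nontrivial G] (y1 : y ≠ 1)
    (hy : p ∣ ♯𝐂[y]) : ♯𝐂[y] = p := by
  have := Fact.mk hp
  have a1 : ∀ {x z : G}, ♯𝐂[x] = p → x ≠ 1 → z ∈ 𝐂[x] → z ≠ 1 → 𝐂[z] = 𝐂[x] := fun {x z} h x1 hz z1 => by
    rw [← cent_zpowers z, eq_zpowers_of_prime (h ▸ hp) hz z1,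
      ← eq_zpowers_of_prime (h ▸ hp) (mem_cent1_self x) x1, cent_zpowers,
      eq_zpowers_of_prime (h ▸ hp) (mem_cent1_self x) x1]
  obtain ⟨z, hz, zo⟩ := cauchy hp hy
  have z1 : z ≠ 1 := by rintro rfl; exact hp.one_lt.ne (by simpa using zo)
  by_cases x1 : x = 1
  · rw [x1, Cls.centralizer_single_eq_top_iff.2 (one_mem _)] at h
    exact le_antisymm (h ▸ card_le le_top) (Nat.le_of_dvd (card_pos' _) hy)
  obtain ⟨T, hT, h1⟩ := exists_syl_ge (le_top : 𝐂[x] ≤ ⊤) (isPGroup_of_card_prime_pow (n := 1) (by simpa))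
  obtain ⟨t, ht, t1⟩ := exists_mem_ne_one (Zc_ne_bot hT.nil (ne_bot_of_le_ne_bot
    (ne_bot_of_prime_dvd hp (h ▸ dvd_rfl)) h1))
  have h2 : T ≤ 𝐂[x] := (le_cent1_iff.2 (Zc_le_cent T ht)).trans
    (a1 h x1 (mem_cent1.2 ((mem_Zc.1 ht).2 x (h1 (mem_cent1_self x))).symm) t1).le
  obtain ⟨g, -, hg⟩ := hT.exists_conj_le (le_top : zpowers z ≤ ⊤)
    (abelem_isPGroup (abelem_zpowers (zo ▸ pow_orderOf_eq_one z)))
  have h3 := a1 h x1 (h2 (hg (conj_mem_conj (mem_zpowers z)))) (conj_ne_one.2 z1)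
  have h4 : ♯𝐂[z] = p := by rw [← h, ← h3, cent1_conj, card_conj]
  rw [a1 h4 z1 (mem_cent1_comm.1 hz) y1, h4]

theorem rat_cyc (hr : Rat (⊤ : Subgroup G)) {a : G} {n : ℕ} (ho : orderOf a = 2 ^ (n + 1)) :
    2 ^ (n + 1) * 2 ^ n ∣ Nat.card G := by
  have h1 : orderOf (a ^ 2) = 2 ^ n := by
    rw [orderOf_pow' _ two_ne_zero, ho, pow_succ, Nat.gcd_mul_left_left, Nat.mul_div_cancel _ two_pos]
  have h2 : {y | ∃ g ∈ 𝐍(zpowers a), y = g * a * g⁻¹} = (zpowers a : Set G) \ zpowers (a ^ 2) := by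
    ext y
    refine ⟨?_, fun ⟨h3, h4⟩ => ?_⟩
    · rintro ⟨g, hg, rfl⟩
      refine ⟨conj_mem_of_norm hg (mem_zpowers a), fun e => ?_⟩
      have := orderOf_dvd_of_mem_zpowers e
      rw [OO.orderOf_conj, ho, h1, Nat.pow_dvd_pow_iff_le_right one_lt_two] at this
      omega
    · obtain ⟨j, rfl⟩ := mem_powers_iff_mem_zpowers.2 h3
      obtain ⟨g, -, e⟩ := hr a trivial j (ho ▸ (Nat.Coprime.pow_right _ (Nat.coprime_two_right.2
        (Nat.not_even_iff_odd.1 fun ⟨i, e⟩ => h4 (by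
          simp only [e, ← two_mul, pow_mul]; exact npow_mem_zpowers _ i)))))
      exact ⟨g, mem_norm_of_conj_le (by rw [conj_zpowers, e]; exact zpowers_le.2 h3), e.symm⟩
  have h3 := relIndex_centralizer_eq_ncard 𝐍(zpowers a) a
  rw [h2, Set.ncard_sdiff (SetLike.coe_subset_coe.2 (zpowers_le.2 (npow_mem_zpowers a 2))),
    ← Nat.card_coe_set_eq, ← Nat.card_coe_set_eq, SetLike.coe_sort_coe, SetLike.coe_sort_coe,
    Nat.card_zpowers, Nat.card_zpowers, ho, h1, show 2 ^ (n + 1) - 2 ^ n = 2 ^ n by omega] at h3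
  refine Dvd.dvd.trans ?_ (card_subgroup_dvd_card 𝐍(zpowers a))
  rw [← card_inf_mul_relIndex 𝐂[a], h3, ← ho]
  exact Nat.mul_dvd_mul_right (OO.orderOf_dvd_card
    (mem_inf.2 ⟨mem_cent1_self a, le_norm_self _ (mem_zpowers a)⟩)) _

theorem not_sixteen (hr : Rat (⊤ : Subgroup G)) {x : G} (h : ♯𝐂[x] = 4) : ¬ 16 ∣ Nat.card G := fun e => by
  obtain ⟨T, hT, h1⟩ := exists_syl_ge (le_top : 𝐂[x] ≤ ⊤) (isPGroup_of_card_prime_pow (p := 2) (n := 2) h)
  have h2 : ∀ i, 2 ^ i ∣ Nat.card G → 2 ^ i ∣ ♯T := fun i e => by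
    rw [hT.card_eq_partn, card_top]
    exact dvd_partn Nat.card_pos.ne' e (isPiNum_singleton_pow Nat.prime_two i)
  obtain ⟨m, hm⟩ := hT.isPGroup.exists_card_eq
  have h3 := (Nat.pow_dvd_pow_iff_le_right one_lt_two).1 (hm ▸ h2 4 e)
  obtain ⟨n, rfl⟩ : ∃ n, m = n + 3 := ⟨m - 3, by omega⟩
  obtain ⟨a, b, -, -, ho, -⟩ := PGrp.dqs_of_maxClass hm (PGrp.nilpotencyClass_eq_of_card_centralizer_le
    (p := 2) (n + 1) hm ⟨x, h1 (mem_cent1_self x)⟩ (by
      rw [← Cls.centralizer_single_subgroupOf, Nat.card_congr (subgroupOfEquivOfLe h1).toEquiv, h]; rfl))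
  have h4 := h2 _ ((pow_add 2 _ _).dvd.trans (rat_cyc hr ((orderOf_coe a).trans ho)))
  rw [hm, Nat.pow_dvd_pow_iff_le_right one_lt_two] at h4
  omega

theorem decomp {n : ℕ} (h0 : n ≠ 0) (h : ∀ p : ℕ, p.Prime → p ∣ n → p = 2 ∨ p = 3 ∨ p = 5) :
    ∃ a b c, n = 2 ^ a * 3 ^ b * 5 ^ c := by
  obtain ⟨a, n, h2, rfl⟩ := Nat.exists_eq_pow_mul_and_not_dvd h0 2 (by norm_num)
  obtain ⟨b, n, h3, rfl⟩ := Nat.exists_eq_pow_mul_and_not_dvd (right_ne_zero_of_mul h0) 3 (by norm_num)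
  obtain ⟨c, n, h5, rfl⟩ := Nat.exists_eq_pow_mul_and_not_dvd
    (right_ne_zero_of_mul (right_ne_zero_of_mul h0)) 5 (by norm_num)
  obtain rfl : n = 1 := Nat.eq_one_iff_not_exists_prime_dvd.2 fun p hp e => by
    rcases h p hp (((e.mul_left _).mul_left _).mul_left _) with rfl | rfl | rfl
    exacts [h2 ((e.mul_left _).mul_left _), h3 (e.mul_left _), h5 e]
  exact ⟨a, b, c, by ring⟩

theorem shape (hs : Group.IsSolvable G) (h : Dis G) (x : G) : ∃ a b, ♯𝐂[x] = 2 ^ a * 3 ^ b ∨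
    (♯𝐂[x] = 75 * (2 ^ a * 3 ^ b) ∨ ∃ c, ♯𝐂[x] = 125 * (2 ^ a * 3 ^ b * 5 ^ c)) := by
  obtain ⟨a, b, c, e⟩ := decomp (card_pos' 𝐂[x]).ne' fun p hp e =>
    primes hs h hp (e.trans (card_subgroup_dvd_card _))
  have h1 := five hs h x
  have h2 : ∀ i, 5 ^ i ∣ ♯𝐂[x] → i ≤ c := fun i e' => (Nat.pow_dvd_pow_iff_le_right (by norm_num)).1
    ((Nat.Coprime.pow_left i (Nat.Coprime.mul_right ((by norm_num : Nat.Coprime 5 2).pow_right a)
      ((by norm_num : Nat.Coprime 5 3).pow_right b))).dvd_of_dvd_mul_left (e ▸ e'))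
  rcases c with _ | c
  · exact ⟨a, b, Or.inl (by simpa using e)⟩
  obtain ⟨h3, h4⟩ := h1 (e ▸ (dvd_pow_self 5 c.succ_ne_zero).mul_left _)
  have := h2 2 h3
  rcases c with _ | _ | c
  · omega
  · have h5 := h4 fun e' => by have := h2 3 e'; omega
    rcases b with _ | b
    · rw [e] at h5
      have := ((Nat.prime_three.dvd_mul.1 h5).resolve_right (by norm_num))
      exact absurd (Nat.prime_three.dvd_of_dvd_pow (by simpa using this)) (by norm_num)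
    · exact ⟨a, b, Or.inr (Or.inl (by rw [e]; ring))⟩
  · exact ⟨a, b, Or.inr (Or.inr ⟨c, by rw [e]; ring⟩)⟩

theorem six [Nontrivial G] (hs : Group.IsSolvable G) (h : Dis G) : Nat.card G ≤ 6 := by
  have b2 := Bd.pow one_lt_two
  have b3 := Bd.pow (p := 3) (by norm_num)
  have b5 := Bd.pow (p := 5) (by norm_num)
  have bF := ((Bd.one 75).mul (b2.mul b3)).union ((Bd.one 125).mul ((b2.mul b3).mul b5))
  have mF : ∀ {n a b : ℕ}, (n = 75 * (2 ^ a * 3 ^ b) ∨ ∃ c, n = 125 * (2 ^ a * 3 ^ b * 5 ^ c)) →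
      n ∈ ({75} : Set ℕ) * (Set.range (2 ^ ·) * Set.range (3 ^ ·)) ∪
        {125} * (Set.range (2 ^ ·) * Set.range (3 ^ ·) * Set.range (5 ^ ·)) := by
    rintro n a b (rfl | ⟨c, rfl⟩)
    · exact Or.inl (Set.mul_mem_mul rfl (Set.mul_mem_mul ⟨a, rfl⟩ ⟨b, rfl⟩))
    · exact Or.inr (Set.mul_mem_mul rfl (Set.mul_mem_mul (Set.mul_mem_mul ⟨a, rfl⟩ ⟨b, rfl⟩) ⟨c, rfl⟩))
  have c1 : ∀ x : G, ♯𝐂[x] ≠ 1 := fun x e => by
    obtain rfl := mem_bot.1 ((card_eq_one_iff.1 e).le (mem_cent1_self x))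
    rw [Cls.centralizer_single_eq_top_iff.2 (one_mem _), card_top] at e
    exact Finite.one_lt_card.ne' e
  have z2 : ∀ {a m n : ℕ}, ¬ 2 ∣ n → 2 ^ a * m ∣ n → a = 0 := fun h1 h2 => by
    by_contra e; exact h1 (((dvd_pow_self 2 e).mul_right _).trans h2)
  have z3 : ∀ {a m n : ℕ}, ¬ 3 ∣ n → m * 3 ^ a ∣ n → a = 0 := fun h1 h2 => by
    by_contra e; exact h1 (((dvd_pow_self 3 e).mul_left _).trans h2)
  have sub : ∀ {P : Set ℕ} {T : Finset ℕ}, (∀ n ∈ T, n ∈ P) → ↑T ⊆ P := fun h n hn => h n hn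
  by_cases h3 : ∃ x : G, ♯𝐂[x] = 3
  · obtain ⟨x, h3⟩ := h3
    suffices ∀ X : Set ℕ, Bd X 2⁻¹ → (∀ y : G, y ≠ 1 → ∀ a, ♯𝐂[y] = 2 ^ a → 2 ^ a ∈ X) →
        Nat.card G ≤ 6 by
      by_cases h2 : ∃ x : G, ♯𝐂[x] = 2
      · obtain ⟨x, h2⟩ := h2
        exact this _ (Bd.one 2) fun y y1 a e => e ▸ prime_cent Nat.prime_two h2 y1
          (e ▸ dvd_pow_self 2 fun e' => c1 y (by rw [e, e', pow_zero]))
      · refine this _ (fun S hS => (b2.diff {1, 2} (sub (by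
          simpa using ⟨1, rfl⟩)) S hS).trans (by norm_num)) fun y _ a e => ⟨⟨a, rfl⟩, ?_⟩
        rw [← e, Finset.coe_insert, Finset.coe_singleton]
        exact fun e => e.elim (c1 y) fun e => h2 ⟨y, e⟩
    refine fun X hX h1 => card_le_six h (((Bd.one 3).union hX).union ((Bd.one 125).mul (b2.mul b5)))
      (fun y y1 => ?_) (by norm_num)
    by_cases e3 : 3 ∣ ♯𝐂[y]
    · exact Or.inl (Or.inl (prime_cent Nat.prime_three h3 y1 e3))
    obtain ⟨a, b, e | e | ⟨c, e⟩⟩ := shape hs h y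
    · obtain rfl := z3 e3 e.symm.dvd
      rw [pow_zero, mul_one] at e
      exact Or.inl (Or.inr (e ▸ h1 y y1 a e))
    · exact absurd (e ▸ Dvd.dvd.mul_right (by norm_num) _) e3
    · obtain rfl := z3 e3 (e ▸ (dvd_mul_right _ _).mul_left _)
      rw [pow_zero, mul_one] at e
      exact Or.inr (e ▸ Set.mul_mem_mul rfl (Set.mul_mem_mul ⟨a, rfl⟩ ⟨c, rfl⟩))
  by_cases h2 : ∃ x : G, ♯𝐂[x] = 2
  · obtain ⟨x, h2⟩ := h2
    refine card_le_six h (((Bd.one 2).union (b3.diff {1, 3} (sub (by simpa using ⟨1, rfl⟩)))).union bF)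
      (fun y y1 => ?_) (by norm_num)
    by_cases e2 : 2 ∣ ♯𝐂[y]
    · exact Or.inl (Or.inl (prime_cent Nat.prime_two h2 y1 e2))
    obtain ⟨a, b, e | e⟩ := shape hs h y
    · obtain rfl := z2 e2 e.symm.dvd
      rw [pow_zero, one_mul] at e
      refine Or.inl (Or.inr ⟨⟨b, e.symm⟩, ?_⟩)
      rw [Finset.coe_insert, Finset.coe_singleton]
      exact fun e => e.elim (c1 y) fun e => h3 ⟨y, e⟩
    · exact Or.inr (mF e)
  exfalso
  by_cases h4 : ∃ x : G, ♯𝐂[x] = 4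
  · obtain ⟨x, h4⟩ := h4
    have h16 := not_sixteen h.rat h4
    refine (one_le h (((Bd.fin {1, 2, 4, 8}).mul b3).diff {1, 2, 3} (sub ?_)) fun y => ?_).not_gt
      (by norm_num)
    · simp only [Finset.mem_insert, Finset.mem_singleton, forall_eq_or_imp, forall_eq]
      exact ⟨⟨1, by simp, 1, ⟨0, rfl⟩, rfl⟩, ⟨2, by simp, 1, ⟨0, rfl⟩, rfl⟩, 1, by simp, 3, ⟨1, rfl⟩, rfl⟩
    have d := card_subgroup_dvd_card 𝐂[y]
    obtain ⟨a, b, e | e | ⟨c, e⟩⟩ := shape hs h y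
    · refine ⟨e ▸ Set.mul_mem_mul ?_ ⟨b, rfl⟩, ?_⟩
      · have : a < 4 := not_le.1 fun e' => h16
          ((pow_dvd_pow 2 e').trans ((dvd_mul_right _ _).trans (e ▸ d)))
        interval_cases a <;> simp
      · rw [Finset.coe_insert, Finset.coe_insert, Finset.coe_singleton]
        rintro (e | e | e)
        exacts [c1 y e, h2 ⟨y, e⟩, h3 ⟨y, e⟩]
    all_goals exact absurd (sixteen hs h ((e ▸ Dvd.dvd.mul_right (by norm_num) _ : 5 ∣ _).trans d)) h16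
  refine (one_le h (((b2.mul b3).diff {1, 2, 3, 4} (sub ?_)).union bF) fun y => ?_).not_gt (by norm_num)
  · simp only [Finset.mem_insert, Finset.mem_singleton, forall_eq_or_imp, forall_eq]
    exact ⟨⟨1, ⟨0, rfl⟩, 1, ⟨0, rfl⟩, rfl⟩, ⟨2, ⟨1, rfl⟩, 1, ⟨0, rfl⟩, rfl⟩,
      ⟨1, ⟨0, rfl⟩, 3, ⟨1, rfl⟩, rfl⟩, 4, ⟨2, rfl⟩, 1, ⟨0, rfl⟩, rfl⟩
  obtain ⟨a, b, e | e⟩ := shape hs h y
  · refine Or.inl ⟨e ▸ Set.mul_mem_mul ⟨a, rfl⟩ ⟨b, rfl⟩, ?_⟩
    rw [Finset.coe_insert, Finset.coe_insert, Finset.coe_insert, Finset.coe_singleton]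
    rintro (e | e | e | e)
    exacts [c1 y e, h2 ⟨y, e⟩, h3 ⟨y, e⟩, h4 ⟨y, e⟩]
  · exact Or.inr (mF e)

theorem sym_three [Nontrivial G] (hs : Group.IsSolvable G) (h : Dis G) :
    Nonempty (G ≃* Equiv.Perm (Fin 3)) := by
  have hz : ∀ z : G, (∀ g, g * z = z * g) → z = 1 := fun z hz => by
    obtain ⟨g, e⟩ := h 1 z (by rw [Cls.centralizer_single_eq_top_iff.2 (one_mem _),
      Cls.centralizer_single_eq_top_iff.2 (mem_center_iff.2 hz)])
    simpa using e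
  have hc : ¬ IsMulCommutative G := fun e =>
    let ⟨z, z1⟩ := exists_ne (1 : G); z1 (hz z fun g => e.is_comm.comm g z)
  have hp : ¬ (Nat.card G).Prime := fun e => hc
    (have := Fact.mk e; (isCyclic_of_prime_card rfl).isMulCommutative)
  have h6 : Nat.card G = 6 := by
    have h1 := six hs h
    have h2 := Finite.one_lt_card (α := G)
    have h4 : Nat.card G ≠ 2 ^ 2 := fun e => hc (IsPGroup.isMulCommutative_of_card_eq_prime_sq e)
    interval_cases Nat.card G <;> first | rfl | omega | exact absurd (by norm_num) hp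
  obtain ⟨x, -, xo⟩ := cauchy (H := (⊤ : Subgroup G)) Nat.prime_two (by rw [card_top, h6]; norm_num)
  have h1 := (zpowers x).card_mul_index
  have h2 : (♯(zpowers x)).Prime := by rw [Nat.card_zpowers, xo]; exact Nat.prime_two
  rw [Nat.card_zpowers, xo, h6] at h1
  have h3 : Nat.card (G ⧸ zpowers x) = 3 := by rw [← index_eq_card]; omega
  have x1 : x ≠ 1 := by rintro rfl; simp at xo
  have h4 : Function.Injective (MulAction.toPermHom G (G ⧸ zpowers x)) := by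
    rw [← MonoidHom.ker_eq_bot_iff, ← normalCore_eq_ker]
    refine (eq_bot_or_eq_of_prime h2 (normalCore_le _)).resolve_right fun e => x1 (hz x fun g => ?_)
    obtain ⟨i, hi⟩ := mem_powers_iff_mem_zpowers.2
      (e.le ((normalCore_normal _).conj_mem x (e.ge (mem_zpowers x)) g))
    simp only [← pow_mod_orderOf x i, xo] at hi
    rcases Nat.mod_two_eq_zero_or_one i with e | e <;> rw [e] at hi
    · exact absurd (hi.symm.trans (pow_zero x)) (conj_ne_one.2 x1)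
    · rw [pow_one] at hi; exact mul_inv_eq_iff_eq_mul.1 hi.symm
  exact ⟨(MulEquiv.ofBijective _ (h4.bijective_of_nat_card_le (by rw [Nat.card_perm, h3, h6]; rfl))).trans
    (Finite.equivFinOfCardEq h3).permCongrHom⟩

end Cfsg.Agent.AD
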