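import Cfsg.Agent.Lib.AD.Form

/-!
# Tools: invariant forms, rational groups
-/

set_option autoImplicit false

namespace Cfsg.Agent.AD

open Subgroup Cfsg.Agent.OO Cfsg.Agent.Coprime
open scoped commutatorElement Pointwise

universe u

variable {G : Type u} [Group G] {G' : Type u} [Group G'] {A B H K L U V : Subgroup G} {r : ℕ}
  {β : G → G → ZMod r} {ε : ZMod r} {g x y z : G}

namespace AF

theorem one_left (h : AF K A β ε) (hy : y ∈ A) : β 1 y = 0 := by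
  simpa using h.add 1 (one_mem _) 1 (one_mem _) y hy

theorem eps_sq (h : AF K A β ε) : ε * ε = 1 := by rcases h.eps with e | e <;> simp [e]

theorem add_right (h : AF K A β ε) (hx : x ∈ A) (hy : y ∈ A) (hz : z ∈ A) :
    β z (x * y) = β z x + β z y := by
  rw [h.sym z hz _ (mul_mem hx hy), h.add x hx y hy z hz, h.sym z hz x hx, h.sym z hz y hy, mul_add]

theorem one_right (h : AF K A β ε) (hy : y ∈ A) : β y 1 = 0 := by
  rw [h.sym y hy 1 (one_mem _), h.one_left hy, mul_zero]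

theorem inv_left (h : AF K A β ε) (hx : x ∈ A) (hy : y ∈ A) : β x⁻¹ y = -β x y := by
  have := h.add x hx _ (inv_mem hx) y hy
  rw [mul_inv_cancel, h.one_left hy] at this
  linear_combination -this

theorem inv_right (h : AF K A β ε) (hx : x ∈ A) (hy : y ∈ A) : β x y⁻¹ = -β x y := by
  rw [h.sym x hx _ (inv_mem hy), h.inv_left hy hx, h.sym x hx y hy, mul_neg]

theorem pow_left (h : AF K A β ε) (hx : x ∈ A) (hy : y ∈ A) (n : ℕ) : β (x ^ n) y = n * β x y := by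
  induction n with
  | zero => simp [h.one_left hy]
  | succ n ih => rw [pow_succ, h.add _ (pow_mem hx n) x hx y hy, ih]; push_cast; ring

theorem pow_right (h : AF K A β ε) (hx : x ∈ A) (hy : y ∈ A) (n : ℕ) : β x (y ^ n) = n * β x y := by
  rw [h.sym x hx _ (pow_mem hy n), h.pow_left hy hx, h.sym x hx y hy]; ring

theorem mono (h : AF K A β ε) (hL : L ≤ K) : AF L A β ε :=
  ⟨hL.trans h.norm, h.add, h.eps, h.sym, fun g hg => h.inv g (hL hg), h.nd⟩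

theorem eq_of (h : AF K A β ε) (hx : x ∈ A) (hy : y ∈ A) (e : ∀ v ∈ A, β x v = β y v) : x = y :=
  mul_inv_eq_one.1 (h.nd _ (mul_mem hx (inv_mem hy)) fun v hv => by
    rw [h.add x hx _ (inv_mem hy) v hv, h.inv_left hy hv, e v hv, add_neg_cancel])

/-- the orthogonal complement of an element -/
def perp (h : AF K A β ε) (hx : x ∈ A) : Subgroup G where
  carrier := {y | y ∈ A ∧ β x y = 0}
  one_mem' := ⟨one_mem _, h.one_right hx⟩
  mul_mem' ha hb := ⟨mul_mem ha.1 hb.1, by rw [h.add_right ha.1 hb.1 hx, ha.2, hb.2, add_zero]⟩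
  inv_mem' ha := ⟨inv_mem ha.1, by rw [h.inv_right hx ha.1, ha.2, neg_zero]⟩

theorem eq_one (h : AF K A β ε) (hx : x ∈ A) (e : A ≤ h.perp hx) : x = 1 :=
  h.nd x hx fun _ hy => (e hy).2

theorem res [Finite G] (h : AF K A β ε) (hA : Ab A) (hB : B ≤ K) (hc : (♯B).Coprime ♯A) (hL : L ≤ K)
    (hn : L ≤ 𝐍(B)) : AF L (A ⊓ 𝐂(B)) β ε := by
  refine ⟨le_norm_inf (hL.trans h.norm) (le_norm_cent hn), fun x hx y hy z hz => h.add x hx.1 y hy.1 z hz.1,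
    h.eps, fun x hx y hy => h.sym x hx.1 y hy.1, fun g hg x hx y hy => h.inv g (hL hg) x hx.1 y hy.1,
    fun x hx e => h.eq_one hx.1 ?_⟩
  refine (centralizer_sup_commutator (hB.trans h.norm) hc (Or.inr (sol_of_ab hA))).ge.trans
    (sup_le (fun y hy => ⟨hy.1, e y hy⟩) (commutator_le.2 fun a ha b hb => ?_))
  have h1 := conj_mem_of_norm (h.norm (hB hb)) (inv_mem ha)
  rw [show ⁅a, b⁆ = a * (b * a⁻¹ * b⁻¹) by group]
  refine ⟨mul_mem ha h1, ?_⟩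
  have h2 := h.inv b (hB hb) x hx.1 _ (inv_mem ha)
  rw [show b * x * b⁻¹ = x by rw [mem_cent_iff.1 hx.2 b hb]; group] at h2
  rw [h.add_right ha h1 hx.1, h2, h.inv_right hx.1 ha, add_neg_cancel]

theorem alt [hp : Fact r.Prime] (h : AF K A β ε) (h5 : 5 ≤ r) (hx : x ∈ A)
    (e : ∃ k ∈ K, k * x * k⁻¹ = x ^ 2) : β x x = 0 := by
  obtain ⟨k, hk, e⟩ := e
  have h1 := h.inv k hk x hx x hx
  rw [e, h.pow_left hx (pow_mem hx 2), h.pow_right hx hx] at h1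
  have h3 : ((3 : ℕ) : ZMod r) ≠ 0 := fun e3 => by
    have := Nat.le_of_dvd (by norm_num) ((ZMod.natCast_eq_zero_iff _ _).1 e3); omega
  exact (mul_eq_zero.1 (by push_cast at h1 ⊢; linear_combination h1)).resolve_left h3

theorem not_isCyclic [Finite G] (h : AF K A β ε) (ha : ∀ x ∈ A, β x x = 0) (h0 : A ≠ ⊥) :
    ¬ IsCyclic A := fun hc => by
  obtain ⟨x, rfl⟩ := exists_zpowers_eq hc
  exact h0 (zpowers_eq_bot.2 (h.eq_one (mem_zpowers x) (zpowers_le.2 ⟨mem_zpowers x, ha x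
    (mem_zpowers x)⟩)))

theorem sq_dvd [Finite G] [hp : Fact r.Prime] (h : AF K A β ε) (hA : IsElementaryAbelian r A)
    (ha : ∀ x ∈ A, β x x = 0) (h0 : A ≠ ⊥) : ∃ d, 2 ≤ d ∧ ♯A = r ^ d :=
  ⟨_, not_le.1 (mt (isCyclic_iff_rp_of_ab (abelem_isPGroup hA) (abelem_ab hA)).2
    (h.not_isCyclic ha h0)), card_eq_pow_rp hA⟩

theorem exists_perp [Finite G] [hp : Fact r.Prime] (h : AF K A β ε) (hB : B < A) :
    ∃ v ∈ A, v ≠ 1 ∧ ∀ y ∈ B, β v y = 0 := by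
  by_contra! e
  let f : A → (B →* ℂ) := fun x =>
    { toFun := fun y => ZMod.stdAddChar (β x y)
      map_one' := by simp [h.one_right x.2]
      map_mul' := fun a b => by
        rw [← AddChar.map_add_eq_mul, ← h.add_right (hB.le a.2) (hB.le b.2) x.2]; rfl }
  have hf : Function.Injective f := fun a b e1 => by
    by_contra e2
    obtain ⟨y, hy, e3⟩ := e _ (mul_mem a.2 (inv_mem b.2)) fun e3 =>
      e2 (Subtype.ext (mul_inv_eq_one.1 e3))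
    have := ZMod.injective_stdAddChar (DFunLike.congr_fun e1 ⟨y, hy⟩)
    rw [h.add _ a.2 _ (inv_mem b.2) y (hB.le hy), h.inv_left b.2 (hB.le hy)] at e3
    exact e3 (by rw [← sub_eq_add_neg, sub_eq_zero]; exact this)
  have := Fintype.ofFinite A
  have := Fintype.ofFinite B
  have h1 := ((linearIndependent_monoidHom B ℂ).comp f hf).fintype_card_le_finrank
  rw [Module.finrank_fintype_fun_eq_card, ← Nat.card_eq_fintype_card,
    ← Nat.card_eq_fintype_card] at h1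
  exact (card_lt hB).not_ge h1

theorem comap {K' A' : Subgroup G'} {β : G' → G' → ZMod r} (h : AF K' A' β ε) (f : G →* G')
    (hA : A.map f = A') (hi : A ⊓ f.ker = ⊥) (hn : K ≤ 𝐍(A)) (hK : K.map f ≤ K') :
    AF K A (fun x y => β (f x) (f y)) ε := by
  subst hA
  refine ⟨hn, fun x hx y hy z hz => ?_, h.eps, fun x hx y hy => h.sym _ ⟨x, hx, rfl⟩ _ ⟨y, hy, rfl⟩,
    fun g hg x hx y hy => ?_, fun x hx e => mem_bot.1 (hi ▸ ⟨hx, h.nd _ ⟨x, hx, rfl⟩ ?_⟩)⟩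
  · rw [map_mul]; exact h.add _ ⟨x, hx, rfl⟩ _ ⟨y, hy, rfl⟩ _ ⟨z, hz, rfl⟩
  · simp only [map_mul, map_inv]; exact h.inv _ (hK ⟨g, hg, rfl⟩) _ ⟨x, hx, rfl⟩ _ ⟨y, hy, rfl⟩
  · rintro _ ⟨y, hy, rfl⟩; exact e y hy

theorem polar (h : AF K A β ε) (hz : z ∈ K)
    (e : ∀ u ∈ A, β (z ^ 2 * u * (z ^ 2)⁻¹) u = β (z * u * z⁻¹) u) (h0 : A ⊓ 𝐂[z] = ⊥) :
    A ≤ 𝐂[z ^ 6] := fun w hw => by
  have m : ∀ i : ℕ, ∀ u ∈ A, z ^ i * u * (z ^ i)⁻¹ ∈ A := fun i u hu =>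
    conj_mem_of_norm (h.norm (pow_mem hz i)) hu
  have h1 : ∀ i : ℕ, ∀ v ∈ A, β (z ^ (i + 4) * w * (z ^ (i + 4))⁻¹) v + ε * β (z ^ i * w * (z ^ i)⁻¹) v =
      β (z ^ (i + 3) * w * (z ^ (i + 3))⁻¹) v + ε * β (z ^ (i + 1) * w * (z ^ (i + 1))⁻¹) v := by
    intro i v hv
    have hu := m (i + 2) w hw
    have a1 := e _ (mul_mem hu hv)
    have a2 := e _ hu
    have a3 := e _ hv
    have a4 := h.inv _ (pow_mem hz 2) v hv _ (m i w hw)
    have a5 := h.inv _ hz v hv _ (m (i + 1) w hw)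
    rw [h.sym v hv _ (m _ w hw)] at a4 a5
    rw [show z ^ 2 * (z ^ i * w * (z ^ i)⁻¹) * (z ^ 2)⁻¹ = z ^ (i + 2) * w * (z ^ (i + 2))⁻¹ by group] at a4
    rw [show z * (z ^ (i + 1) * w * (z ^ (i + 1))⁻¹) * z⁻¹ = z ^ (i + 2) * w * (z ^ (i + 2))⁻¹ by
      group] at a5
    rw [show z ^ 2 * (z ^ (i + 2) * w * (z ^ (i + 2))⁻¹) * (z ^ 2)⁻¹ =
      z ^ (i + 4) * w * (z ^ (i + 4))⁻¹ by group, show z * (z ^ (i + 2) * w * (z ^ (i + 2))⁻¹) * z⁻¹ =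
      z ^ (i + 3) * w * (z ^ (i + 3))⁻¹ by group] at a2
    rw [show z ^ 2 * (z ^ (i + 2) * w * (z ^ (i + 2))⁻¹ * v) * (z ^ 2)⁻¹ =
      z ^ (i + 4) * w * (z ^ (i + 4))⁻¹ * (z ^ 2 * v * (z ^ 2)⁻¹) by group,
      show z * (z ^ (i + 2) * w * (z ^ (i + 2))⁻¹ * v) * z⁻¹ =
      z ^ (i + 3) * w * (z ^ (i + 3))⁻¹ * (z * v * z⁻¹) by group] at a1
    have b1 := conj_mem_of_norm (h.norm hz) hv
    rw [h.add _ (m _ w hw) _ (m 2 v hv) _ (mul_mem hu hv), h.add _ (m _ w hw) _ b1 _ (mul_mem hu hv),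
      h.add_right hu hv (m _ w hw), h.add_right hu hv (m _ w hw), h.add_right hu hv (m 2 v hv),
      h.add_right hu hv b1] at a1
    linear_combination a1 - a2 - a3 - a4 + a5
  have h2 := mul_mem (m 6 w hw) (inv_mem hw)
  have h3 : z * (z ^ 6 * w * (z ^ 6)⁻¹ * w⁻¹) * z⁻¹ = z ^ 6 * w * (z ^ 6)⁻¹ * w⁻¹ :=
    h.eq_of (conj_mem_of_norm (h.norm hz) h2) h2 fun v hv => by
      have b1 := h1 0 v hv
      have b2 := h1 3 v hv
      rw [show z * (z ^ 6 * w * (z ^ 6)⁻¹ * w⁻¹) * z⁻¹ = z ^ 7 * w * (z ^ 7)⁻¹ *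
        (z ^ 1 * w * (z ^ 1)⁻¹)⁻¹ by group, h.add _ (m _ w hw) _ (inv_mem (m _ w hw)) v hv,
        h.add _ (m _ w hw) _ (inv_mem hw) v hv, h.inv_left hw hv, h.inv_left (m _ w hw) hv]
      simp only [Nat.reduceAdd, pow_zero, one_mul, inv_one, mul_one] at b1 b2
      linear_combination b2 + ε * b1 - (β w v - β (z ^ 1 * w * (z ^ 1)⁻¹) v) * h.eps_sq
  have h4 : z ^ 6 * w * (z ^ 6)⁻¹ * w⁻¹ = 1 :=
    mem_bot.1 (h0 ▸ ⟨h2, mem_cent1_comm.1 (mem_cent1_iff_conj.2 h3)⟩)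
  exact mem_cent1_comm.1 (mem_cent1_iff_conj.2 (mul_inv_eq_one.1 h4))

end AF

/-- rational subgroups -/
def Rat (K : Subgroup G) : Prop :=
  ∀ x ∈ K, ∀ j : ℕ, j.Coprime (orderOf x) → ∃ k ∈ K, k * x * k⁻¹ = x ^ j

theorem exists_cop {j d n : ℕ} (h : j.Coprime d) (hn : n ≠ 0) (hd : d ≠ 0) :
    ∃ i, i ≡ j [MOD d] ∧ i.Coprime n := by
  have : NeZero (d * n) := ⟨mul_ne_zero hd hn⟩
  obtain ⟨u, hu⟩ := ZMod.unitsMap_surjective (Nat.dvd_mul_right d n) (ZMod.unitOfCoprime j h)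
  refine ⟨(u : ZMod (d * n)).val, (ZMod.natCast_eq_natCast_iff _ _ _).1 ?_,
    (ZMod.val_coe_unit_coprime u).coprime_dvd_right (Nat.dvd_mul_left n d)⟩
  simpa [ZMod.unitsMap_def] using congrArg Units.val hu

theorem parts {a b c d : G} {m n : ℕ} (h : m.Coprime n) (h1 : Commute a b) (h2 : Commute c d)
    (ha : a ^ m = 1) (hc : c ^ m = 1) (hb : b ^ n = 1) (hd : d ^ n = 1) (e : a * b = c * d) :
    a = c ∧ b = d := by
  obtain ⟨i, i1, i2⟩ := Nat.chineseRemainder h 1 0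
  have := congrArg (· ^ i) e
  simp only [h1.mul_pow, h2.mul_pow, pow_eq_pow_of_modEq i1 ha, pow_eq_pow_of_modEq i1 hc,
    pow_eq_pow_of_modEq i2 hb, pow_eq_pow_of_modEq i2 hd, pow_one, pow_zero, mul_one] at this
  exact ⟨this, mul_left_cancel (this ▸ e)⟩

variable [Finite G]

theorem Rat.map (h : Rat K) (f : G →* G') : Rat (K.map f) := by
  rintro _ ⟨x, hx, rfl⟩ j hj
  obtain ⟨i, h1, h2⟩ := exists_cop hj (orderOf_pos x).ne'
    (f.isOfFinOrder (isOfFinOrder_of_finite x)).orderOf_pos.ne'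
  obtain ⟨k, hk, e⟩ := h x hx i h2
  exact ⟨f k, ⟨k, hk, rfl⟩, by
    rw [← pow_eq_pow_of_modEq h1 (pow_orderOf_eq_one _), ← map_pow, ← e]; simp⟩

theorem Rat.real (h : Rat K) : ∀ g ∈ K, ∃ k ∈ K, k * g * k⁻¹ = g⁻¹ := fun g hg => by
  have h1 := orderOf_pos g
  obtain ⟨k, hk, e⟩ := h g hg (orderOf g - 1) ((Nat.coprime_self_sub_left h1).2 (by simp))
  refine ⟨k, hk, e.trans (eq_inv_of_mul_eq_one_left ?_)⟩
  rw [← pow_succ, Nat.sub_add_cancel h1, pow_orderOf_eq_one]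

omit [Finite G] in
theorem Rat.pair (h : Rat K) (hx : x ∈ K) (hy : y ∈ K) (hc : Commute x y)
    (ho : (orderOf x).Coprime (orderOf y)) {j : ℕ} (hj : j.Coprime (orderOf y)) :
    ∃ k ∈ K, k * x * k⁻¹ = x ∧ k * y * k⁻¹ = y ^ j := by
  obtain ⟨i, i1, i2⟩ := Nat.chineseRemainder ho 1 j
  obtain ⟨k, hk, e⟩ := h _ (mul_mem hx hy) i (by
    rw [hc.orderOf_mul_eq_mul_orderOf_of_coprime ho]
    exact Nat.Coprime.mul_right (by rw [Nat.Coprime, i1.gcd_eq]; simp)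
      (by rw [Nat.Coprime, i2.gcd_eq]; exact hj))
  rw [hc.mul_pow, pow_eq_pow_of_modEq i1 (pow_orderOf_eq_one _),
    pow_eq_pow_of_modEq i2 (pow_orderOf_eq_one _), pow_one] at e
  exact ⟨k, hk, parts ho (hc.map (MulAut.conj k))
    (hc.pow_right j) (by rw [conj_pow, pow_orderOf_eq_one]; group) (pow_orderOf_eq_one _)
    (by rw [conj_pow, pow_orderOf_eq_one]; group) (by rw [← pow_mul, mul_comm, pow_mul,
      pow_orderOf_eq_one, one_pow]) (by rw [← e]; group)⟩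

omit [Finite G] in
theorem conj_compl {k : G} (hn : H ≤ 𝐍(U)) (hi : U ⊓ H = ⊥) (hk : k ∈ U ⊔ H) (hx : x ∈ H) (hy : y ∈ H)
    (e : k * x * k⁻¹ = y) : ∃ u ∈ U, ∃ h ∈ H, u * h = k ∧ h * x * h⁻¹ = y := by
  obtain ⟨u, hu, h, hh, rfl⟩ := (mem_sup_norm_left hn).1 hk
  refine ⟨u, hu, h, hh, rfl, mul_inv_eq_one.1 (mem_bot.1 (hi.le (mem_inf.2 ⟨?_,
    mul_mem (mul_mem (mul_mem hh hx) (inv_mem hh)) (inv_mem hy)⟩)))⟩
  rw [show h * x * h⁻¹ * y⁻¹ = u⁻¹ * (y * u * y⁻¹) by rw [← e]; group]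
  exact mul_mem (inv_mem hu) (conj_mem_of_norm (hn hy) hu)

end Cfsg.Agent.AD
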